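import Cfsg.Agent.H717.Two.St

/-!
# Products with a character of an orthogonal component; the two characters (helper717)

* `exists_prod_left` : the product of a cuspidal character of `M_K` and an irreducible character of `M_{K'}` trivial on
  the centre;
* `exists_two` : the irreducible characters of degrees `|G : P_J| k d` and `|G : P_J| k' d q`.
-/

set_option autoImplicit false
set_option linter.unusedSectionVars false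

open scoped ComplexConjugate
open Cfsg

namespace Cfsg.Agent.H717.Two

open Cfsg.Agent.Characters Cfsg.Agent.H53.HC Cfsg.Agent.H35.ExcIdx
open Cfsg.Agent.H35.Poin (card_B')
open CoxeterSystem Cfsg.Agent.ChevalleyStructure.CoxeterGeom Cfsg.Agent.Tits.Roots Cfsg.Agent.Tits.Core
  Cfsg.Agent.Tits.Exchange Cfsg.Agent.Nodes.Reps Cfsg.Agent.Nodes.BNOf Cfsg.Agent.Nodes.StabComb
  Cfsg.Agent.Nodes.Bruhat Cfsg.Agent.Nodes.OppDec Cfsg.Agent.Nodes.LeviDec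

variable {I W Y : Type*} [Fintype I] [DecidableEq I] [Group W] [Group Y] {M : CoxeterMatrix I}
  {cs : CoxeterSystem M W} {A : I → I → ℤ} {h : IsCartan M A} {p : ℕ} {T : Subgroup Y} {n : I → Y}
  {X : (I → ℤ) → Subgroup Y}

variable (R : RGD cs h p T n X)

include R

/-- **The torus has order prime to the characteristic.** -/
theorem not_dvd_T [Finite W] [Finite Y] [hp : Fact p.Prime] (hG : GG cs h T X = ⊤) : ¬ p ∣ Nat.card T := by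
  have h1 : (RGD.Sup X (RGD.Pos cs h)).index = (RGD.B cs h T X).index * Nat.card T := by
    have h2 := Subgroup.index_mul_card (RGD.Sup X (RGD.Pos cs h))
    have h3 := Subgroup.index_mul_card (RGD.B cs h T X)
    rw [card_B' R] at h3
    have h4 : 0 < Nat.card ↥(RGD.Sup X (RGD.Pos cs h)) := Nat.card_pos
    refine Nat.eq_of_mul_eq_mul_right h4 ?_
    rw [h2, ← h3]
    ring
  have h4 := KFacts.RgdSyl.not_dvd_relIndex R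
  rw [hG, Subgroup.relIndex_top_right, h1] at h4
  exact fun h5 => h4 (Dvd.dvd.mul_left h5 _)

/-- **The product of a cuspidal character and a character of an orthogonal component.** -/
theorem exists_prod_left [Finite W] [Finite Y] {K K' : Set I} (ho : Orth A K K') {θ : ↥(MJ cs h X K) → ℂ}
    {ρ : ↥(MJ cs h X K') → ℂ} (hθ : Cusp cs h X K θ) (hρ : IsIrrCharacter _ ρ)
    (hρz : ∀ z ∈ Subgroup.center ↥(MJ cs h X K'), ρ z = ρ 1) :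
    ∃ ψ : ↥(MJ cs h X (K ∪ K')) → ℂ, IsIrrCharacter _ ψ ∧
      (∀ i ∈ K, ∀ [Fintype (rad cs h X (K ∪ K') i)],
        ∑ u : rad cs h X (K ∪ K') i, ψ ⟨u, rad_le_MJ (K ∪ K') i u.2⟩ = 0) ∧
      ∀ (a : Y) (ha : a ∈ MJ cs h X K) (b : Y) (hb : b ∈ MJ cs h X K'),
        ∃ hab : a * b ∈ MJ cs h X (K ∪ K'), ψ ⟨a * b, hab⟩ = θ ⟨a, ha⟩ * ρ ⟨b, hb⟩ := by
  classical
  have hcomm := ho.comm R
  obtain ⟨ψ, hψ, hval⟩ := exists_prod_char hcomm hθ.irr hρ (by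
    intro z h1 h2
    have hc1 : (⟨z, h1⟩ : ↥(MJ cs h X K)) ∈ Subgroup.center ↥(MJ cs h X K) := by
      rw [Subgroup.mem_center_iff]
      intro g
      exact Subtype.ext (hcomm g g.2 z h2)
    have hc2 : (⟨z⁻¹, inv_mem h2⟩ : ↥(MJ cs h X K')) ∈ Subgroup.center ↥(MJ cs h X K') := by
      rw [Subgroup.mem_center_iff]
      intro g
      exact Subtype.ext (hcomm z⁻¹ (inv_mem h1) g g.2).symm
    have e1 := hθ.cen _ hc1 1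
    rw [mul_one] at e1
    exact ⟨e1, hρz _ hc2⟩)
  have hMJ := ho.MJ_union (cs := cs) (h := h) (X := X)
  let e := MulEquiv.subgroupCongr hMJ
  have hle1 : MJ cs h X K ≤ MJ cs h X (K ∪ K') := by rw [hMJ]; exact le_sup_left
  have hle2 : MJ cs h X K' ≤ MJ cs h X (K ∪ K') := by rw [hMJ]; exact le_sup_right
  have hval' : ∀ (a : Y) (ha : a ∈ MJ cs h X K) (b : Y) (hb : b ∈ MJ cs h X K')
      (hab : a * b ∈ MJ cs h X (K ∪ K')), (ψ ∘ e) ⟨a * b, hab⟩ = θ ⟨a, ha⟩ * ρ ⟨b, hb⟩ :=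
    fun a ha b hb _ => hval a ha b hb
  refine ⟨ψ ∘ e, Core.isIrr_comp e.toMonoidHom e.surjective hψ, ?_,
    fun a ha b hb => ⟨mul_mem (hle1 ha) (hle2 hb), hval' a ha b hb _⟩⟩
  intro i hi hf
  have hr : rad cs h X (K ∪ K') i = rad cs h X K i := ho.rad_eq hi
  have : Fintype (rad cs h X K i) := Fintype.ofFinite _
  have h1 : ∀ u : rad cs h X (K ∪ K') i, (ψ ∘ e) ⟨u, rad_le_MJ (K ∪ K') i u.2⟩ =
      θ ⟨u, rad_le_MJ K i (by rw [← hr]; exact u.2)⟩ * ρ 1 := by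
    rintro ⟨u, hu⟩
    have h2 := hval' u (rad_le_MJ K i (by rw [← hr]; exact hu)) 1 (one_mem _)
      (by rw [mul_one]; exact rad_le_MJ (K ∪ K') i hu)
    simp only [mul_one] at h2
    exact h2
  rw [Finset.sum_congr rfl fun u _ => h1 u, ← Finset.sum_mul]
  have h3 : ∑ u : rad cs h X (K ∪ K') i, θ ⟨u, rad_le_MJ K i (by rw [← hr]; exact u.2)⟩ =
      ∑ u : rad cs h X K i, θ ⟨u, rad_le_MJ K i u.2⟩ :=
    Fintype.sum_equiv (MulEquiv.subgroupCongr hr).toEquiv _ _ fun u => rfl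
  rw [h3, hθ.van i hi, zero_mul]

/-- the product character is not stable under an element reversing the `A_2`-component -/
theorem not_stable_swap' [Finite W] {J : Set I} {k₀ k₁ : I} (hle : MJ cs h X {k₀, k₁} ≤ MJ cs h X J)
    {θ : ↥(MJ cs h X {k₀, k₁}) → ℂ} (hns : NonSwap cs h X {k₀, k₁} k₀ k₁ θ) {ψ : ↥(MJ cs h X J) → ℂ} {c : ℂ}
    (hc : c ≠ 0) (hval : ∀ (a : Y) (ha : a ∈ MJ cs h X {k₀, k₁}), ψ ⟨a, hle ha⟩ = θ ⟨a, ha⟩ * c)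
    {w : W} {g : Y} (hg : Rp cs R.nsys w g) (hw : Perm cs h J w) (h0 : rep cs h w (sr k₀) = sr k₁)
    (h1 : rep cs h w (sr k₁) = sr k₀) :
    ∃ (m : Y) (hm : m ∈ MJ cs h X J), ψ ⟨g⁻¹ * m * g, conj_mem_MJ R hg hw hm⟩ ≠ ψ ⟨m, hm⟩ := by
  by_contra hcon
  push Not at hcon
  have hp : Perm cs h {k₀, k₁} w := perm_pair h0 h1
  have hgn := rp_mem_normalizer_MJ R hg hp
  refine hns g⁻¹ (inv_mem hgn) ?_ ?_ ?_ ?_ ?_
  · rw [R.conj_rp hg.inv (isRoot_sr cs h k₀), ← h1, rep_inv_apply]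
  · rw [R.conj_rp hg.inv (isRoot_sr cs h k₁), ← h0, rep_inv_apply]
  · rw [R.conj_rp hg.inv (isRoot_sr cs h k₀).neg, map_neg, ← h1, rep_inv_apply]
  · rw [R.conj_rp hg.inv (isRoot_sr cs h k₁).neg, map_neg, ← h0, rep_inv_apply]
  · funext m
    have h2 := hcon m (hle m.2)
    have h3 : g⁻¹ * m * g ∈ MJ cs h X {k₀, k₁} := conj_mem_MJ R hg hp m.2
    rw [hval _ m.2, hval _ h3] at h2
    have h4 := mul_right_cancel₀ hc h2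
    rw [Function.comp_apply]
    refine Eq.trans ?_ h4
    congr 1
    apply Subtype.ext
    rw [conjME_coe, inv_inv]

/-- **The character from `θ ⊗ θ' ⊗ ρ`**, with the inducing character: `φ = θ ⊗ θ'` is cuspidal on `M_K`,
`K = {k₀, k₁} ∪ N`, `ψ = φ ⊗ ρ` is irreducible on `M_J`, `ψ'` is irreducible on `P_J` above `ψ`, trivial on `V_J`. -/
theorem exists_irr_three' [Finite W] [Fintype Y] (hG : GG cs h T X = ⊤) {J N : Set I} {j j₀ k₀ k₁ : I}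
    (hJ : ∀ i, i ∈ J ↔ i ≠ j) (hJK : J = ({k₀, k₁} ∪ N) ∪ {j₀}) (ho : Orth A {k₀, k₁} N)
    (ho' : Orth A ({k₀, k₁} ∪ N) {j₀}) (hC : Comb cs h J ({k₀, k₁} ∪ N))
    (hk : IsoPair A J k₀ k₁) (hk1 : A k₁ j = 0) (h3 : ¬ (3 : ℤ) ∣ A k₀ j)
    (hun : ∀ a b, IsoPair A J a b → (a = k₀ ∧ b = k₁) ∨ (a = k₁ ∧ b = k₀))
    {θ : ↥(MJ cs h X {k₀, k₁}) → ℂ} (hθ : Cusp cs h X {k₀, k₁} θ) (hns : NonSwap cs h X {k₀, k₁} k₀ k₁ θ)
    {θ' : ↥(MJ cs h X N) → ℂ} (hθ' : Cusp cs h X N θ') {ρ : ↥(MJ cs h X {j₀}) → ℂ} (hρ : IsIrrCharacter _ ρ)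
    (hρz : ∀ z ∈ Subgroup.center ↥(MJ cs h X {j₀}), ρ z = ρ 1) :
    ∃ (φ : ↥(MJ cs h X ({k₀, k₁} ∪ N)) → ℂ) (ψ : ↥(MJ cs h X J) → ℂ) (ψ' : ↥(PJ cs h T X J) → ℂ),
      Cusp cs h X ({k₀, k₁} ∪ N) φ ∧ φ 1 = θ 1 * θ' 1 ∧ IsIrrCharacter _ ψ ∧ ψ 1 = θ 1 * θ' 1 * ρ 1 ∧
      (∀ (a : Y) (ha : a ∈ MJ cs h X ({k₀, k₁} ∪ N)) (b : Y) (hb : b ∈ MJ cs h X {j₀}),
        ∃ hab : a * b ∈ MJ cs h X J, ψ ⟨a * b, hab⟩ = φ ⟨a, ha⟩ * ρ ⟨b, hb⟩) ∧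
      IsIrrCharacter _ ψ' ∧ IsIrrCharacter Y (indFun (PJ cs h T X J) ψ') ∧
      (∀ (v : Y) (hv : v ∈ VJ cs h X J), ψ' ⟨v, VJ_le_PJ hv⟩ = ψ' 1) ∧
      (∃ k : ℕ, 0 < k ∧ k ∣ Nat.card T ∧ ψ' 1 = k * ψ 1) ∧
      ∃ (c : ℂ) (s : Finset (↥(MJ cs h X J) → ℂ)), c ≠ 0 ∧ ψ ∈ s ∧
        (∀ (m : Y) (hm : m ∈ MJ cs h X J), ψ' ⟨m, LJ_le_PJ (MJ_le_LJ J hm)⟩ = c * ∑ φ ∈ s, φ ⟨m, hm⟩) ∧
        ∀ φ ∈ s, ∃ t, ∃ ht : t ∈ T, φ = ψ ∘ conjME (MJ cs h X J) (T_le_normalizer_MJ R J ht) := by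
  subst hJK
  obtain ⟨φ, hφ, hφv⟩ := hθ.exists_prod R ho hθ'
  obtain ⟨ψ, hψ, hψv, hψval⟩ := exists_prod_left R ho' hφ hρ hρz
  have hφ1 : φ 1 = θ 1 * θ' 1 := by
    obtain ⟨hab, e⟩ := hφv 1 (one_mem _) 1 (one_mem _)
    simp only [mul_one] at e
    exact e
  have hψ1 : ψ 1 = θ 1 * θ' 1 * ρ 1 := by
    obtain ⟨hab, e⟩ := hψval 1 (one_mem _) 1 (one_mem _)
    simp only [mul_one] at e
    rw [← hφ1]
    exact e
  have hle1 : MJ cs h X {k₀, k₁} ≤ MJ cs h X ({k₀, k₁} ∪ N) := by rw [ho.MJ_union]; exact le_sup_left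
  have hle2 : MJ cs h X ({k₀, k₁} ∪ N) ≤ MJ cs h X (({k₀, k₁} ∪ N) ∪ {j₀}) := by rw [ho'.MJ_union]; exact le_sup_left
  obtain ⟨ψ', h1, h2, h4, h5, h6⟩ := exists_irr_partial' R hG (K := {k₀, k₁} ∪ N) (fun i hi => Or.inl hi) hC hψ hψv (by
    intro w g hg hw hp
    obtain ⟨h0, h1⟩ := swap_of_iso hJ hk hk1 h3 hun hp hw
    refine not_stable_swap' R (hle1.trans hle2) hns (c := θ' 1 * ρ 1)
      (mul_ne_zero (Core.isIrr_apply_one_ne_zero hθ'.irr) (Core.isIrr_apply_one_ne_zero hρ)) ?_ hg hp h0 h1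
    intro a ha
    obtain ⟨hab, e⟩ := hφv a ha 1 (one_mem _)
    obtain ⟨hab', e'⟩ := hψval a (hle1 ha) 1 (one_mem _)
    simp only [mul_one] at e e'
    have e2 : ψ ⟨a, (hle1.trans hle2) ha⟩ = φ ⟨a, hle1 ha⟩ * ρ 1 := e'
    have e3 : φ ⟨a, hle1 ha⟩ = θ ⟨a, ha⟩ * θ' 1 := e
    rw [e2, e3]
    ring)
  exact ⟨φ, ψ, ψ', hφ, hφ1, hψ, hψ1, hψval, h1, h2, h4, h5, h6⟩

/-- **The character from `θ ⊗ θ' ⊗ ρ`.** -/
theorem exists_irr_three [Finite W] [Fintype Y] (hG : GG cs h T X = ⊤) {J N : Set I} {j j₀ k₀ k₁ : I}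
    (hJ : ∀ i, i ∈ J ↔ i ≠ j) (hJK : J = ({k₀, k₁} ∪ N) ∪ {j₀}) (ho : Orth A {k₀, k₁} N)
    (ho' : Orth A ({k₀, k₁} ∪ N) {j₀}) (hC : Comb cs h J ({k₀, k₁} ∪ N))
    (hk : IsoPair A J k₀ k₁) (hk1 : A k₁ j = 0) (h3 : ¬ (3 : ℤ) ∣ A k₀ j)
    (hun : ∀ a b, IsoPair A J a b → (a = k₀ ∧ b = k₁) ∨ (a = k₁ ∧ b = k₀))
    {θ : ↥(MJ cs h X {k₀, k₁}) → ℂ} (hθ : Cusp cs h X {k₀, k₁} θ) (hns : NonSwap cs h X {k₀, k₁} k₀ k₁ θ)
    {θ' : ↥(MJ cs h X N) → ℂ} (hθ' : Cusp cs h X N θ') {ρ : ↥(MJ cs h X {j₀}) → ℂ} (hρ : IsIrrCharacter _ ρ)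
    (hρz : ∀ z ∈ Subgroup.center ↥(MJ cs h X {j₀}), ρ z = ρ 1) :
    ∃ χ : Y → ℂ, IsIrrCharacter Y χ ∧ ∃ k : ℕ, 0 < k ∧ k ∣ Nat.card T ∧
      χ 1 = (PJ cs h T X J).index * (k * (θ 1 * θ' 1 * ρ 1)) := by
  obtain ⟨φ, ψ, ψ', -, -, -, hψ1, -, -, hi, -, ⟨k, hk, hkd, hk1'⟩, -⟩ := exists_irr_three' R hG hJ hJK ho ho' hC hk hk1 h3 hun
    hθ hns hθ' hρ hρz
  refine ⟨_, hi, k, hk, hkd, ?_⟩
  rw [indFun_one, hk1', hψ1]

end Cfsg.Agent.H717.Two
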