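import Mathlib
import Cfsg.Agent.H167.HasStLie
import Cfsg.Agent.H396.CommTab4
import Cfsg.Agent.H996.Deg.RgdEdge
import Cfsg.Agent.H996.Deg.ExcConn
import Cfsg.Agent.H654.Two.U3Row
import Cfsg.Agent.H654.Two.SzRow
import Cfsg.Agent.H654.Two.ReeRow
import Cfsg.Agent.H42.Deg.F4Two
import Cfsg.Agent.H596.OneFacts

/-!
# Two characters of degree divisible by the characteristic (helper717)

`two_of_adj` : the Steinberg character and the character of an edge of the degree graph;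
`two_char` : `TwoOr p S` for the simple groups `S` of Lie type of characteristic `p`.
-/

set_option autoImplicit false

namespace Cfsg.Agent.H717.Two

open Cfsg Cfsg.Agent.H596.OneFacts Cfsg.Agent.H671.H5 Cfsg.Agent.H167.StChar

universe u

/-- **The Steinberg character and an edge `p - l`.** -/
theorem two_of_adj {p l : ℕ} (hp : p.Prime) {S : Type u} [Group S] [Finite S] (hd : p ∣ Nat.card S)
    (hst : HasSt p S) (hlp : l ≠ p) (hadj : Adj p l S) : Two p S := by
  rw [adj_iff] at hadj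
  obtain ⟨h1, h2, h3, χ, hχ⟩ := hadj
  obtain ⟨σ, hσ, hσ1, -⟩ := hst
  have e1 : charDegree σ = p ^ (Nat.card S).factorization p := H670.PSing.charDegree_eq_of hσ1
  have hpos : (Nat.card S).factorization p ≠ 0 := by
    have := (hp.dvd_iff_one_le_factorization (Nat.card_pos (α := S)).ne').1 hd
    omega
  refine two_of_degree_ne ⟨σ, hσ⟩ χ ?_ ((dvd_mul_right p l).trans hχ) ?_
  · show p ∣ charDegree σ
    rw [e1]
    exact dvd_pow_self p hpos
  · show charDegree σ ≠ charDegree (χ : S → ℂ)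
    rw [e1]
    intro h
    rw [← h] at hχ
    have h4 : l ∣ p := h3.dvd_of_dvd_pow ((dvd_mul_left l p).trans hχ)
    exact hlp ((Nat.prime_dvd_prime_iff_eq h3 hp).1 h4)

theorem two_of_lie_adj {p l : ℕ} (hp : p.Prime) {S : Type u} [Group S] [Finite S] [IsSimpleGroup S]
    (hd : p ∣ Nat.card S) (h : IsLieTypeChar p S) (hlp : l ≠ p) (hadj : Adj p l S) : Two p S :=
  two_of_adj hp hd (hasSt_of_lie hp h) hlp hadj

theorem two_of_cg {p : ℕ} (hp : p.Prime) {S : Type u} [Group S] [Finite S] [IsSimpleGroup S]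
    (hnc : ¬ IsMulCommutative S) (hd : p ∣ Nat.card S) (h : IsLieTypeChar p S) (hC : H396.HasCG p S) : Two p S := by
  obtain ⟨l, -, hlp, hadj⟩ := H996.Deg.adj hp hnc hC
  exact two_of_lie_adj hp hd h hlp hadj

/-- **The defining characteristic.** -/
theorem two_char {p : ℕ} (hp : p.Prime) (S : Type u) [Group S] [Finite S] (hs : IsSimpleGroup S)
    (hnc : ¬ IsMulCommutative S) (hd : p ∣ Nat.card S) (h : IsLieTypeChar p S) : TwoOr p S := by
  rcases H396.CommTab.table h with hC | hE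
  · exact Or.inl (two_of_cg hp hnc hd h hC)
  rcases hE with ⟨F, i1, i2, i3, h4, he⟩ | ⟨F, i1, i2, i3, q, hF, hq, ⟨e⟩⟩ | ⟨rfl, h1⟩ | ⟨rfl, h1⟩ | ⟨rfl, h1⟩ |
    ⟨rfl, F, i1, i2, m, hF, hm, ⟨e⟩⟩ | ⟨rfl, F, i1, i2, hF, ⟨e⟩⟩ | ⟨rfl, F, i1, i2, hF, ⟨e⟩⟩
  · exact Or.inr (Or.inl ⟨F, i1, i2, i3, h4, he⟩)
  · exact H654.Two.two_psu3 S hs hF hq e hp hd
  · exact H654.Two.two_sz S h1 hs hp hd
  · exact H654.Two.two_ree S h1 hs hp hd
  · exact Or.inl (H42.Deg.F4Two.two_2F4 S h1 hp hd)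
  · have : Fact (Nat.Prime 2) := ⟨Nat.prime_two⟩
    have hch : CharP F 2 := charP_of_card_eq_prime hF
    obtain ⟨l, hl, hlp, hadj⟩ := H996.Deg.Two.adj_PSp (F := F) (m := m) hm
    exact Or.inl (two_of_lie_adj hp hd h hlp (H996.Deg.ExcConn.adj_congr e hadj))
  · have hadj := H996.Deg.GThree.adj_three_two (K := F) (by rw [Nat.card_eq_fintype_card]; exact hF)
    exact Or.inl (two_of_lie_adj hp hd h (by norm_num) (H996.Deg.ExcConn.adj_congr e hadj))
  · have : Fact (Nat.Prime 2) := ⟨Nat.prime_two⟩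
    have hch : CharP F 2 := charP_of_card_eq_prime hF
    obtain ⟨l, hl, hlp, hadj⟩ := H996.Deg.Two.adj_F4 (F := F)
    exact Or.inl (two_of_lie_adj hp hd h hlp (H996.Deg.ExcConn.adj_congr e hadj))

end Cfsg.Agent.H717.Two
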