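import Cfsg.Agent.H717.Two.Comb
import Cfsg.Agent.H53.HC.ExcRows

/-!
# The roots orthogonal to `A₂ × A₃` in `E₇` and to `A₂ × A₄` in `E₈` (helper717)
-/

set_option autoImplicit false
set_option linter.unusedSectionVars false

namespace Cfsg.Agent.H717.Two

open Cfsg.Agent.H53.HC Cfsg.Agent.H35.ExcIdx Cfsg.Agent.H53.HC.ExcRows
open CoxeterSystem Cfsg.Agent.ChevalleyStructure.CoxeterGeom Cfsg.Agent.Tits.Roots Cfsg.Agent.Tits.Core
  Cfsg.Agent.Tits.Exchange Cfsg.Agent.Nodes.Reps Cfsg.Agent.Nodes.BNOf Cfsg.Agent.Nodes.StabComb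
  Cfsg.Agent.Nodes.Bruhat Cfsg.Agent.Nodes.OppDec Cfsg.Agent.Nodes.LeviDec

/-- the Cartan matrix of `E₇` -/
def a7 (i j : Fin 7) : ℤ := if i = j then 2 else if m7 i j = 3 then -1 else 0
/-- the Cartan matrix of `E₈` -/
def a8 (i j : Fin 8) : ℤ := if i = j then 2 else if m8 i j = 3 then -1 else 0

theorem sl7 : ∀ i j, i ≠ j → m7 i j = 2 ∨ m7 i j = 3 := by decide +kernel
theorem sl8 : ∀ i j, i ≠ j → m8 i j = 2 ∨ m8 i j = 3 := by decide +kernel

theorem a7_eq : a7 = ![![2, 0, -1, 0, 0, 0, 0], ![0, 2, 0, -1, 0, 0, 0], ![-1, 0, 2, -1, 0, 0, 0],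
    ![0, -1, -1, 2, -1, 0, 0], ![0, 0, 0, -1, 2, -1, 0], ![0, 0, 0, 0, -1, 2, -1], ![0, 0, 0, 0, 0, -1, 2]] := by
  decide +kernel

theorem a8_eq : a8 = ![![2, 0, -1, 0, 0, 0, 0, 0], ![0, 2, 0, -1, 0, 0, 0, 0], ![-1, 0, 2, -1, 0, 0, 0, 0],
    ![0, -1, -1, 2, -1, 0, 0, 0], ![0, 0, 0, -1, 2, -1, 0, 0], ![0, 0, 0, 0, -1, 2, -1, 0],
    ![0, 0, 0, 0, 0, -1, 2, -1], ![0, 0, 0, 0, 0, 0, -1, 2]] := by
  decide +kernel

theorem pairing7 {A : Fin 7 → Fin 7 → ℤ} (h : IsCartan CoxeterMatrix.E₇ A) (i : Fin 7) (x : Fin 7 → ℤ) :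
    pairing A i x = ∑ k, a7 i k * x k := by
  unfold pairing
  refine Finset.sum_congr rfl fun k _ => ?_
  rw [cartan_eq h sl7 i k]
  rfl

theorem pairing8 {A : Fin 8 → Fin 8 → ℤ} (h : IsCartan CoxeterMatrix.E₈ A) (i : Fin 8) (x : Fin 8 → ℤ) :
    pairing A i x = ∑ k, a8 i k * x k := by
  unfold pairing
  refine Finset.sum_congr rfl fun k _ => ?_
  rw [cartan_eq h sl8 i k]
  rfl

theorem aux7 {t s : ℤ} (h : 12 * t * (24 * t - 8 * t - 9 * t - s) + s * (2 * s - 12 * t) = 2) (hs : 0 ≤ s) :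
    t = 0 ∧ s = 1 := by
  have h1 : 2 * ((s - 6 * t) ^ 2 + 6 * t ^ 2) = 2 := by linear_combination h
  have h2 : t = 0 := by
    by_contra hne
    have h5 : 1 ≤ t ^ 2 := by
      have := sq_nonneg t
      have h6 : t ^ 2 ≠ 0 := pow_ne_zero 2 hne
      omega
    nlinarith [sq_nonneg (s - 6 * t)]
  subst h2
  refine ⟨rfl, ?_⟩
  nlinarith

theorem aux8 {t s : ℤ} (h : 15 * t * (30 * t - 10 * t - 12 * t - s) + s * (2 * s - 15 * t) = 2) (hs : 0 ≤ s) :
    t = 0 ∧ s = 1 := by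
  have h1 : (2 * s - 15 * t) ^ 2 + 15 * t ^ 2 = 4 := by linear_combination 2 * h
  have h2 : t = 0 := by
    by_contra hne
    have h5 : 1 ≤ t ^ 2 := by
      have := sq_nonneg t
      have h6 : t ^ 2 ≠ 0 := pow_ne_zero 2 hne
      omega
    nlinarith [sq_nonneg (2 * s - 15 * t)]
  subst h2
  refine ⟨rfl, ?_⟩
  nlinarith

theorem perp7 {W : Type*} [Group W] [Fintype W] {cs : CoxeterSystem CoxeterMatrix.E₇ W} {A : Fin 7 → Fin 7 → ℤ}
    {h : IsCartan CoxeterMatrix.E₇ A} {K : Set (Fin 7)} (hK : ∀ i, i ≠ 3 → i ≠ 1 → i ∈ K) (x : Fin 7 → ℤ)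
    (hx : ∀ i ∈ K, pairing A i x = 0) (h0 : 0 ≤ x) (hf : form cs h x x = form cs h (sr 1) (sr 1)) : x = sr 1 := by
  have h1 := form_self_of_two (cs := cs) (h := h) (x := x) (j := 3) (j₀ := 1) (by decide) fun i hi hi' => hx i (hK i hi hi')
  have hn : form cs h (sr 3) (sr 3) = form cs h (sr 1) (sr 1) := form_eq_of_three (by decide +kernel)
  have hpos : 0 < form cs h (sr 1) (sr 1) := form_pos cs h (sr_ne_zero (1 : Fin 7))
  rw [hf, hn] at h1
  have h2 : x 3 * pairing A 3 x + x 1 * pairing A 1 x = 2 := by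
    have : form cs h (sr 1) (sr 1) * (x 3 * pairing A 3 x + x 1 * pairing A 1 x) =
      form cs h (sr 1) (sr 1) * 2 := by linarith
    exact mul_left_cancel₀ hpos.ne' this
  have e0 := hx 0 (hK 0 (by decide) (by decide))
  have e2 := hx 2 (hK 2 (by decide) (by decide))
  have e4 := hx 4 (hK 4 (by decide) (by decide))
  have e5 := hx 5 (hK 5 (by decide) (by decide))
  have e6 := hx 6 (hK 6 (by decide) (by decide))
  rw [pairing7 h, a7_eq] at e0 e2 e4 e5 e6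
  rw [pairing7 h, pairing7 h, a7_eq] at h2
  simp only [Fin.sum_univ_seven, Matrix.cons_val] at e0 e2 e4 e5 e6 h2
  obtain ⟨t, ht⟩ : ∃ t, x 0 = 4 * t ∧ x 6 = 3 * t := ⟨x 0 - x 6, by omega, by omega⟩
  obtain ⟨ht0, ht6⟩ := ht
  have f2 : x 2 = 8 * t := by omega
  have f3 : x 3 = 12 * t := by omega
  have f5 : x 5 = 6 * t := by omega
  have f4 : x 4 = 9 * t := by omega
  obtain ⟨h4, h5⟩ := aux7 (t := t) (s := x 1) (by rw [f2, f3, f4] at h2; linear_combination h2) (h0 1)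
  subst h4
  refine funext fun i => ?_
  fin_cases i
  · exact ht0
  · exact h5
  · exact f2
  · exact f3
  · exact f4
  · exact f5
  · exact ht6

theorem perp8 {W : Type*} [Group W] [Fintype W] {cs : CoxeterSystem CoxeterMatrix.E₈ W} {A : Fin 8 → Fin 8 → ℤ}
    {h : IsCartan CoxeterMatrix.E₈ A} {K : Set (Fin 8)} (hK : ∀ i, i ≠ 3 → i ≠ 1 → i ∈ K) (x : Fin 8 → ℤ)
    (hx : ∀ i ∈ K, pairing A i x = 0) (h0 : 0 ≤ x) (hf : form cs h x x = form cs h (sr 1) (sr 1)) : x = sr 1 := by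
  have h1 := form_self_of_two (cs := cs) (h := h) (x := x) (j := 3) (j₀ := 1) (by decide) fun i hi hi' => hx i (hK i hi hi')
  have hn : form cs h (sr 3) (sr 3) = form cs h (sr 1) (sr 1) := form_eq_of_three (by decide +kernel)
  have hpos : 0 < form cs h (sr 1) (sr 1) := form_pos cs h (sr_ne_zero (1 : Fin 8))
  rw [hf, hn] at h1
  have h2 : x 3 * pairing A 3 x + x 1 * pairing A 1 x = 2 := by
    have : form cs h (sr 1) (sr 1) * (x 3 * pairing A 3 x + x 1 * pairing A 1 x) =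
      form cs h (sr 1) (sr 1) * 2 := by linarith
    exact mul_left_cancel₀ hpos.ne' this
  have e0 := hx 0 (hK 0 (by decide) (by decide))
  have e2 := hx 2 (hK 2 (by decide) (by decide))
  have e4 := hx 4 (hK 4 (by decide) (by decide))
  have e5 := hx 5 (hK 5 (by decide) (by decide))
  have e6 := hx 6 (hK 6 (by decide) (by decide))
  have e7 := hx 7 (hK 7 (by decide) (by decide))
  rw [pairing8 h, a8_eq] at e0 e2 e4 e5 e6 e7
  rw [pairing8 h, pairing8 h, a8_eq] at h2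
  simp only [Fin.sum_univ_eight, Matrix.cons_val] at e0 e2 e4 e5 e6 e7 h2
  obtain ⟨t, ht⟩ : ∃ t, x 0 = 5 * t ∧ x 7 = 3 * t := ⟨2 * x 7 - x 0, by omega, by omega⟩
  obtain ⟨ht0, ht7⟩ := ht
  have f2 : x 2 = 10 * t := by omega
  have f3 : x 3 = 15 * t := by omega
  have f6 : x 6 = 6 * t := by omega
  have f5 : x 5 = 9 * t := by omega
  have f4 : x 4 = 12 * t := by omega
  obtain ⟨h4, h5⟩ := aux8 (t := t) (s := x 1) (by rw [f2, f3, f4] at h2; linear_combination h2) (h0 1)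
  subst h4
  refine funext fun i => ?_
  fin_cases i
  · exact ht0
  · exact h5
  · exact f2
  · exact f3
  · exact f4
  · exact f5
  · exact f6
  · exact ht7

end Cfsg.Agent.H717.Two
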