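import Cfsg.Agent.H717.Two.Prod
import Cfsg.Agent.H717.Two.Perp
import Cfsg.Agent.H53.HC.ExcIM
import Cfsg.Agent.H596.OneFacts
import Cfsg.Prelude.Def_LieTypeChar

/-!
# Two characters of degree divisible by `p` for `E₇(q)` and `E₈(q)`, `p` not the characteristic (helper717)

`J` = all nodes but `3`; `θ` cuspidal on `A₂ × A₃` resp. `A₂ × A₄`, times the trivial or the Steinberg character of the
rank one group of the node `1`.
-/

set_option autoImplicit false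
set_option linter.unusedSectionVars false

open scoped ComplexConjugate
open Cfsg

namespace Cfsg.Agent.H717.Two

open Cfsg.Agent.Characters Cfsg.Agent.H53.HC Cfsg.Agent.H35.ExcIdx
open Cfsg.Agent.H53.HC.ExcRows Cfsg.Agent.H53.HC.ExcIM Cfsg.Lie Cfsg.Agent.Nodes.RGDChev
open CoxeterSystem Cfsg.Agent.ChevalleyStructure.CoxeterGeom Cfsg.Agent.Tits.Roots Cfsg.Agent.Tits.Core
  Cfsg.Agent.Tits.Exchange Cfsg.Agent.Nodes.Reps Cfsg.Agent.Nodes.BNOf Cfsg.Agent.Nodes.StabComb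
  Cfsg.Agent.Nodes.LeviDec

variable {r q l : ℕ} {M : CoxeterMatrix (Fin l)} {A : Fin l → Fin l → ℤ} {h : IsCartan M A} {f : Fin l → ℕ}
  {S : Type*} [Group S] {T : Subgroup S} {n : Fin l → S} {X : (Fin l → ℤ) → Subgroup S}

/-- **The two characters.** -/
theorem two_degrees [Finite S] (hr : r.Prime) (hq : 2 ≤ q) (hrq : r ∣ q) {j j₀ i₀ k₀ k₁ : Fin l} {N : Set (Fin l)}
    (D : ExcData r q h f {i | i ≠ j} T n X) (hJ : ({i | i ≠ j} : Set (Fin l)) = ({k₀, k₁} ∪ N) ∪ {j₀})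
    (ho : ∀ i ∈ ({k₀, k₁} : Set (Fin l)), ∀ i' ∈ N, M i i' = 2)
    (ho' : ∀ i ∈ ({k₀, k₁} ∪ N : Set (Fin l)), M i j₀ = 2) (hj₀ : M j₀ i₀ = 3) (hf : f j₀ = q)
    (hC : Comb M.toCoxeterSystem h {i | i ≠ j} ({k₀, k₁} ∪ N)) (hk : M k₀ k₁ = 3) (hk1 : M k₁ j = 2)
    (hk0 : M k₀ j = 3 ∨ M k₀ j = 4)
    (hun : ∀ a b, a ≠ j → b ≠ j → M a b = 3 → (∀ c, c ≠ j → c ≠ a → c ≠ b → M a c = 2 ∧ M b c = 2) →
      (a = k₀ ∧ b = k₁) ∨ (a = k₁ ∧ b = k₀))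
    (hA2 : InA2 h X q k₀ k₁) (hN : In h X N) :
    ∃ χ χ' : S → ℂ, IsIrrCharacter S χ ∧ IsIrrCharacter S χ' ∧ ∃ d d' : ℕ, χ 1 = d ∧ χ' 1 = d' ∧ d ≠ d' ∧
      ∀ ℓ : ℕ, ℓ.Prime → ℓ ∣ Nat.card S → ℓ ≠ r → ℓ ∣ d ∧ ℓ ∣ d' := by
  classical
  have := D.fin
  have : Fact r.Prime := ⟨hr⟩
  have : Fintype S := Fintype.ofFinite S
  obtain ⟨θ, hθ, hns, d, t, hd, hdt, ht⟩ := hA2
  obtain ⟨θ', hθ'⟩ := hN
  obtain ⟨e, he0, he⟩ := Core.isIrr_apply_one hθ'.irr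
  obtain ⟨ρ, hρ, hρz, hρ1⟩ := st_node D.rgd j₀ i₀ hj₀ ((D.size j₀).trans hf)
  have hmem : ∀ i, i ∈ ({i | i ≠ j} : Set (Fin l)) ↔ i ≠ j := fun i => Iff.rfl
  have hk0J : k₀ ∈ ({i | i ≠ j} : Set (Fin l)) := by rw [hJ]; exact Or.inl (Or.inl (Or.inl rfl))
  have hk1J : k₁ ∈ ({i | i ≠ j} : Set (Fin l)) := by rw [hJ]; exact Or.inl (Or.inl (Or.inr rfl))
  have ho2 : Orth A ({k₀, k₁} ∪ N) {j₀} := orth_of h fun i hi j' hj' => by
    have : j' = j₀ := hj'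
    rw [this]
    exact ho' i hi
  have hiso : IsoPair A {i | i ≠ j} k₀ k₁ := isoPair_of h hk0J hk1J hk fun c hc hc0 hc1 => by
    rw [hJ] at hc
    rcases hc with (hc | hc) | hc
    · rcases hc with rfl | rfl
      · exact absurd rfl hc0
      · exact absurd rfl hc1
    · exact ⟨ho _ (Or.inl rfl) c hc, ho _ (Or.inr rfl) c hc⟩
    · have : c = j₀ := hc
      rw [this]
      exact ⟨ho' _ (Or.inl (Or.inl rfl)), ho' _ (Or.inl (Or.inr rfl))⟩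
  have key : ∀ {σ : ↥(MJ M.toCoxeterSystem h X {j₀}) → ℂ} (hσ : IsIrrCharacter _ σ)
      (hσz : ∀ z ∈ Subgroup.center ↥(MJ M.toCoxeterSystem h X {j₀}), σ z = σ 1),
      ∃ χ : S → ℂ, IsIrrCharacter S χ ∧ ∃ k : ℕ, 0 < k ∧ k ∣ Nat.card T ∧
        χ 1 = (PJ M.toCoxeterSystem h T X {i | i ≠ j}).index * (k * (θ 1 * θ' 1 * σ 1)) := fun hσ hσz =>
    exists_irr_three D.rgd D.gg hmem hJ (orth_of h ho) ho2 hC hiso (cartan_two h hk1).1 (not_three_dvd h hk0)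
      (fun a b hab => by
        obtain ⟨h1, h2, h3, h4⟩ := of_isoPair h hab
        exact hun a b h1 h2 h3 h4) hθ hns hθ' hσ hσz
  obtain ⟨χ, hχ, k, hk, hkT, hχ1⟩ := key (σ := 1) Core.isIrr_one (fun z _ => rfl)
  obtain ⟨χ', hχ', k', hk', hkT', hχ1'⟩ := key hρ hρz
  obtain ⟨P, hP⟩ : ∃ P : ℕ, P = (PJ M.toCoxeterSystem h T X {i | i ≠ j}).index := ⟨_, rfl⟩
  have hP0 : 0 < P := by
    rw [hP]
    exact Nat.pos_of_ne_zero Subgroup.index_ne_zero_of_finite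
  have hd0 : 0 < d := by
    refine Nat.pos_of_ne_zero ?_
    rintro rfl
    exact Core.isIrr_apply_one_ne_zero hθ.irr (by rw [hd, Nat.cast_zero])
  have hdvd : ∀ ℓ : ℕ, ℓ.Prime → ℓ ∣ Nat.card S → ℓ ≠ r → ∀ a : ℕ, ℓ ∣ P * (a * (d * e)) := by
    intro ℓ hℓ h1 h2 a
    by_cases h3 : ℓ ∣ q - 1
    · have h4 := dvd_of_mul_eq hℓ hq h3 ht hdt
      exact Dvd.dvd.mul_left (Dvd.dvd.mul_left (Dvd.dvd.mul_right h4 _) _) _
    · rw [hP]
      exact Dvd.dvd.mul_right (D.idx ℓ hℓ h1 (fun h4 => h2 ((Nat.prime_dvd_prime_iff_eq hℓ hr).1 h4)) h3) _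
  refine ⟨χ, χ', hχ, hχ', P * (k * (d * e)), P * (k' * (d * e)) * q, ?_, ?_, ?_, fun ℓ hℓ h1 h2 =>
    ⟨hdvd ℓ hℓ h1 h2 k, Dvd.dvd.mul_right (hdvd ℓ hℓ h1 h2 k') _⟩⟩
  · rw [hχ1, hP, hd, he, Pi.one_apply]; push_cast; ring
  · rw [hχ1', hP, hd, he, hρ1]; push_cast; ring
  · intro heq
    have h1 : P * (d * e) * k = P * (d * e) * (k' * q) := by
      calc P * (d * e) * k = P * (k * (d * e)) := by ring
        _ = P * (k' * (d * e)) * q := heq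
        _ = P * (d * e) * (k' * q) := by ring
    have h2 : k = k' * q := Nat.eq_of_mul_eq_mul_left (Nat.mul_pos hP0 (Nat.mul_pos hd0 he0)) h1
    apply not_dvd_T D.rgd D.gg
    refine Dvd.dvd.trans ?_ hkT
    rw [h2]
    exact Dvd.dvd.mul_left hrq _

/-- neighbours in `K` -/
theorem exists_nb (h : IsCartan M A) {K : Set (Fin l)} (hK : ∀ i ∈ K, ∃ i' ∈ K, M i i' = 3) : ∀ i ∈ K, ∃ i' ∈ K, i' ≠ i ∧ A i i' ≠ 0 := by
  intro i hi
  obtain ⟨i', hi', h3⟩ := hK i hi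
  refine ⟨i', hi', ?_, ?_⟩
  · rintro rfl
    rw [M.diagonal] at h3
    omega
  · rw [(cartan_three h h3).1]
    norm_num

theorem compl8' : ({i | i ≠ 3} : Set (Fin 8)) = ({2, 0} ∪ {4, 5, 6, 7}) ∪ {1} := by
  ext i
  simp only [Set.mem_ofPred_eq, Set.mem_union, Set.mem_insert_iff, Set.mem_singleton_iff]
  revert i; decide

theorem compl7' : ({i | i ≠ 3} : Set (Fin 7)) = ({2, 0} ∪ {4, 5, 6}) ∪ {1} := by
  ext i
  simp only [Set.mem_ofPred_eq, Set.mem_union, Set.mem_insert_iff, Set.mem_singleton_iff]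
  revert i; decide

theorem mem8 (i : Fin 8) (h3 : i ≠ 3) (h1 : i ≠ 1) : i ∈ ({2, 0} ∪ {4, 5, 6, 7} : Set (Fin 8)) := by
  simp only [Set.mem_union, Set.mem_insert_iff, Set.mem_singleton_iff]
  revert i; decide

theorem mem7 (i : Fin 7) (h3 : i ≠ 3) (h1 : i ≠ 1) : i ∈ ({2, 0} ∪ {4, 5, 6} : Set (Fin 7)) := by
  simp only [Set.mem_union, Set.mem_insert_iff, Set.mem_singleton_iff]
  revert i; decide

theorem not8 (i : Fin 8) (hi : i ∈ ({2, 0} ∪ {4, 5, 6, 7} : Set (Fin 8))) : i ≠ 3 ∧ i ≠ 1 := by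
  simp only [Set.mem_union, Set.mem_insert_iff, Set.mem_singleton_iff] at hi
  revert i; decide

theorem not7 (i : Fin 7) (hi : i ∈ ({2, 0} ∪ {4, 5, 6} : Set (Fin 7))) : i ≠ 3 ∧ i ≠ 1 := by
  simp only [Set.mem_union, Set.mem_insert_iff, Set.mem_singleton_iff] at hi
  revert i; decide

theorem nb8 : ∀ i : Fin 8, i ≠ 3 → i ≠ 1 → ∃ i', i' ≠ 3 ∧ i' ≠ 1 ∧ m8 i i' = 3 := by decide +kernel
theorem nb7 : ∀ i : Fin 7, i ≠ 3 → i ≠ 1 → ∃ i', i' ≠ 3 ∧ i' ≠ 1 ∧ m7 i i' = 3 := by decide +kernel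
theorem or8 : ∀ i : Fin 8, i ≠ 3 → i ≠ 1 → m8 i 1 = 2 := by decide +kernel
theorem or7 : ∀ i : Fin 7, i ≠ 3 → i ≠ 1 → m7 i 1 = 2 := by decide +kernel
theorem orN8 : ∀ i ∈ [(2 : Fin 8), 0], ∀ i' ∈ [(4 : Fin 8), 5, 6, 7], m8 i i' = 2 := by decide +kernel
theorem orN7 : ∀ i ∈ [(2 : Fin 7), 0], ∀ i' ∈ [(4 : Fin 7), 5, 6], m7 i i' = 2 := by decide +kernel

theorem comb8 {A : Fin 8 → Fin 8 → ℤ} {h : IsCartan CoxeterMatrix.E₈ A} [Finite CoxeterMatrix.E₈.Group] :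
    Comb CoxeterMatrix.E₈.toCoxeterSystem h {i | i ≠ 3} ({2, 0} ∪ {4, 5, 6, 7}) := by
  have := Fintype.ofFinite CoxeterMatrix.E₈.Group
  refine comb_of compl8' (orth_of h fun i hi j hj => ?_) (exists_nb h fun i hi => ?_)
    fun x hx h0 hf => perp8 (fun i h3 h1 => mem8 i h3 h1) x hx h0 hf
  · have : j = 1 := hj
    rw [this]
    exact or8 i (not8 i hi).1 (not8 i hi).2
  · obtain ⟨i', h3, h1, hM⟩ := nb8 i (not8 i hi).1 (not8 i hi).2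
    exact ⟨i', mem8 i' h3 h1, hM⟩

theorem comb7 {A : Fin 7 → Fin 7 → ℤ} {h : IsCartan CoxeterMatrix.E₇ A} [Finite CoxeterMatrix.E₇.Group] :
    Comb CoxeterMatrix.E₇.toCoxeterSystem h {i | i ≠ 3} ({2, 0} ∪ {4, 5, 6}) := by
  have := Fintype.ofFinite CoxeterMatrix.E₇.Group
  refine comb_of compl7' (orth_of h fun i hi j hj => ?_) (exists_nb h fun i hi => ?_)
    fun x hx h0 hf => perp7 (fun i h3 h1 => mem7 i h3 h1) x hx h0 hf
  · have : j = 1 := hj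
    rw [this]
    exact or7 i (not7 i hi).1 (not7 i hi).2
  · obtain ⟨i', h3, h1, hM⟩ := nb7 i (not7 i hi).1 (not7 i hi).2
    exact ⟨i', mem7 i' h3 h1, hM⟩

section rows

universe u

/-- two characters of different degrees divisible by all primes but `r` -/
def TwoBig (r : ℕ) (S : Type u) [Group S] : Prop :=
  ∃ χ χ' : S → ℂ, IsIrrCharacter S χ ∧ IsIrrCharacter S χ' ∧ ∃ d d' : ℕ, χ 1 = d ∧ χ' 1 = d' ∧ d ≠ d' ∧
      ∀ ℓ : ℕ, ℓ.Prime → ℓ ∣ Nat.card S → ℓ ≠ r → ℓ ∣ d ∧ ℓ ∣ d'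

theorem TwoBig.two {r : ℕ} {S : Type u} [Group S] (hB : TwoBig r S) {p : ℕ} (hp : p.Prime)
    (hd : p ∣ Nat.card S) (hpr : p ≠ r) : H596.OneFacts.Two p S := by
  obtain ⟨χ, χ', hχ, hχ', d, d', h1, h2, hne, hdv⟩ := hB
  obtain ⟨h3, h4⟩ := hdv p hp hd hpr
  have e1 : charDegree χ = d := H670.PSing.charDegree_eq_of h1
  have e2 : charDegree χ' = d' := H670.PSing.charDegree_eq_of h2
  refine H596.OneFacts.two_of_degree_ne ⟨χ, hχ⟩ ⟨χ', hχ'⟩ ?_ ?_ ?_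
  · show p ∣ charDegree χ
    rw [e1]; exact h3
  · show p ∣ charDegree χ'
    rw [e2]; exact h4
  · show charDegree χ ≠ charDegree χ'
    rw [e1, e2]; exact hne

theorem TwoBig.of_equiv {r : ℕ} {S : Type*} [Group S] {S' : Type*} [Group S'] (e : S ≃* S') (hB : TwoBig r S') :
    TwoBig r S := by
  obtain ⟨χ, χ', hχ, hχ', d, d', h1, h2, hne, hdv⟩ := hB
  refine ⟨χ ∘ e, χ' ∘ e, Core.isIrr_comp e.toMonoidHom e.surjective hχ,
    Core.isIrr_comp e.toMonoidHom e.surjective hχ', d, d', ?_, ?_, hne, fun ℓ hℓ hd => hdv ℓ hℓ ?_⟩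
  · rw [Function.comp_apply, map_one, h1]
  · rw [Function.comp_apply, map_one, h2]
  · rwa [← Nat.card_congr e.toEquiv]

theorem twoBig_E8 {S : Type*} [Group S] (h : Lie.IsoE8 S) : ∃ r, r.Prime ∧ IsLieTypeChar r S ∧ TwoBig r S := by
  obtain ⟨F, i1, i2, ⟨e⟩⟩ := h
  obtain ⟨r, f, hr, hf, hF, hch⟩ := exists_prime_pow F
  have := finite_group (K := F) chevE8
  have D := data_E8_3 hr hf hF
  have := D.fin
  have hB : TwoBig r ↥(chevE8.group F) := two_degrees hr (two_le hr hf) (dvd_pow_self r hf) (j := 3) (j₀ := 1) (i₀ := 3)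
    (k₀ := 2) (k₁ := 0) (N := {4, 5, 6, 7}) D compl8'
    (fun i hi i' hi' => orN8 i (by simpa using hi) i' (by simpa using hi'))
    (fun i hi => or8 i (not8 i hi).1 (not8 i hi).2) (by decide +kernel) rfl comb8 (by decide +kernel)
    (by decide +kernel) (by decide +kernel) un8 (in_A2 D (by decide +kernel) rfl)
    (by rw [← range_k8]; exact in_chain D (by norm_num) k8 hk8)
  exact ⟨r, hr, Or.inr (Or.inr (Or.inr (Or.inr (Or.inr (Or.inr (Or.inl ⟨F, i1, i2, hch,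
    Or.inr (Or.inr (Or.inr (Or.inr ⟨e⟩)))⟩)))))), hB.of_equiv e⟩

theorem twoBig_E7 {S : Type*} [Group S] (h : Lie.IsoE7 S) : ∃ r, r.Prime ∧ IsLieTypeChar r S ∧ TwoBig r S := by
  obtain ⟨F, i1, i2, ⟨e⟩⟩ := h
  obtain ⟨r, f, hr, hf, hF, hch⟩ := exists_prime_pow F
  have := finite_group (K := F) chevE7
  have D := data_E7_3 hr hf hF
  have := D.fin
  have hB : TwoBig r ↥(chevE7.group F) := two_degrees hr (two_le hr hf) (dvd_pow_self r hf) (j := 3) (j₀ := 1) (i₀ := 3)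
    (k₀ := 2) (k₁ := 0) (N := {4, 5, 6}) D compl7'
    (fun i hi i' hi' => orN7 i (by simpa using hi) i' (by simpa using hi'))
    (fun i hi => or7 i (not7 i hi).1 (not7 i hi).2) (by decide +kernel) rfl comb7 (by decide +kernel)
    (by decide +kernel) (by decide +kernel) un7 (in_A2 D (by decide +kernel) rfl)
    (by rw [← range_k7]; exact in_chain D (by norm_num) k7 hk7)
  exact ⟨r, hr, Or.inr (Or.inr (Or.inr (Or.inr (Or.inr (Or.inr (Or.inl ⟨F, i1, i2, hch,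
    Or.inr (Or.inr (Or.inr (Or.inl ⟨e⟩)))⟩)))))), hB.of_equiv e⟩

end rows

end Cfsg.Agent.H717.Two
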