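import Mathlib
import Cfsg.Agent.H717.Two.Char
import Cfsg.Agent.H717.Two.SevenEight
import Cfsg.Agent.H654.Two.AltRow
import Cfsg.Agent.H654.Two.PslRow
import Cfsg.Agent.H113.Two.Psl
import Cfsg.Agent.H53.HC.TwoCG
import Cfsg.Agent.H654.Two.F4Row
import Cfsg.Agent.H53.HC.TwoE6
import Cfsg.Agent.H40.TwoF4
import Cfsg.Agent.H113.Two.Psu
import Cfsg.Agent.H115.HC.TwoRows
import Cfsg.Agent.H749.TwoOdd
import Cfsg.Agent.H749.TwoPlus

/-!
# Assembly of `FactTwo` (helper717)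

`Row P` : the row of the groups with `P`, for the primes which are not the defining characteristic.
-/

set_option autoImplicit false

namespace Cfsg.Agent.H717.Two

open Cfsg Cfsg.Agent.H596.OneFacts

universe u

/-- a row, not in the defining characteristic -/
def Row (P : ∀ (S : Type u) [Group S], Prop) : Prop :=
  ∀ (S : Type u) [Group S] [Finite S], IsSimpleGroup S → ¬ IsMulCommutative S → P S → ∀ {p : ℕ}, p.Prime →
    p ∣ Nat.card S → ¬ IsLieTypeChar p S → TwoOr p S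

theorem row_alt : Row.{u} IsAlternating := fun S _ _ _ _ h p hp hd _ => H654.Two.two_alternating S h hp hd

theorem row_psl : Row.{u} IsPSL := by
  intro S _ _ hs _ h p hp hd hn
  obtain ⟨F, i1, i2, n, hn2, h4, ⟨e⟩⟩ := h
  rcases Nat.lt_or_ge 2 n with h3 | h3
  · refine H113.Two.Psl.two_psl S hs h3 e hp hd fun hc => hn ?_
    exact Or.inl ⟨F, i1, i2, hc, n, hn2, h4, ⟨e⟩⟩
  · obtain rfl : n = 2 := by omega
    exact H654.Two.two_psl_two S (h4 rfl) e hp hd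

theorem row_sz : Row.{u} Lie.IsoSuzuki := fun S _ _ hs _ h p hp hd _ => H654.Two.two_sz S h hs hp hd

theorem row_ree : Row.{u} Lie.IsoRee := fun S _ _ hs _ h p hp hd _ => H654.Two.two_ree S h hs hp hd

theorem row_2F4 : Row.{u} Lie.Iso2F4 := fun S _ _ _ _ h p hp hd _ => Or.inl (H42.Deg.F4Two.two_2F4 S h hp hd)

theorem row_E8 : Row.{u} Lie.IsoE8 := by
  intro S _ _ _ _ h p hp hd hn
  obtain ⟨r, hr, hL, hB⟩ := twoBig_E8 h
  exact Or.inl (hB.two hp hd fun hpr => hn (hpr ▸ hL))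

theorem row_E7 : Row.{u} Lie.IsoE7 := by
  intro S _ _ _ _ h p hp hd hn
  obtain ⟨r, hr, hL, hB⟩ := twoBig_E7 h
  exact Or.inl (hB.two hp hd fun hpr => hn (hpr ▸ hL))

theorem row_2E6 : Row.{u} Lie.Iso2E6 := by
  intro S _ _ _ _ h p hp hd hn
  obtain ⟨r, hr, -, ⟨K, i1, i2, q, hq, hK, hch, he⟩, h1⟩ := H53.HC.TwoRows.two_TwE6 h
  refine Or.inl (h1 p hp hd fun hpr => hn ?_)
  subst hpr
  exact Or.inr (Or.inr (Or.inr (Or.inr (Or.inr (Or.inr (Or.inr (Or.inl ⟨K, i1, i2, hch, q, hq, Or.inl ⟨hK, he⟩⟩)))))))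

theorem row_F4 : Row.{u} Lie.IsoF4 := by
  intro S _ _ _ _ h p hp hd hn
  obtain ⟨K, i1, i2, ⟨e⟩⟩ := h
  obtain ⟨r, hr⟩ := CharP.exists K
  have hpr : p ≠ r := by
    rintro rfl
    exact hn (Or.inr (Or.inr (Or.inr (Or.inr (Or.inr (Or.inr (Or.inl ⟨K, i1, i2, hr, Or.inr (Or.inl ⟨e⟩)⟩)))))))
  left
  by_cases hc : p = 2 ∨ ¬ p ∣ Fintype.card K - 1
  · exact H654.Two.F4Row.two_F4_cross e hp hd hpr hc
  · push Not at hc
    exact H40.TwoT.two_F4_torus e hp hd hpr hc.1 hc.2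

theorem row_E6 : Row.{u} Lie.IsoChevE6 := by
  intro S _ _ _ _ h p hp hd hn
  obtain ⟨F, i1, i2, ⟨e⟩⟩ := h
  obtain ⟨r, f, hr, hf, hF, hch⟩ := H53.HC.ExcIM.exists_prime_pow F
  have hpr : p ≠ r := by
    rintro rfl
    exact hn (Or.inr (Or.inr (Or.inr (Or.inr (Or.inr (Or.inr (Or.inl ⟨F, i1, i2, hch,
      Or.inr (Or.inr (Or.inl ⟨e⟩))⟩)))))))
  rw [Nat.card_congr e.toEquiv] at hd
  exact Or.inl (H53.HC.TwoRows.Two.of_equiv e (H53.HC.TwoRows.two_E6 hr hf hF hp hd hpr))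

theorem row_psu : Row.{u} IsPSU := by
  intro S _ _ hs _ h p hp hd hn
  obtain ⟨F, i1, i2, n, q, hF, hn3, hn2, ⟨e⟩⟩ := h
  rcases Nat.lt_or_ge 3 n with h3 | h3
  · refine H113.Two.Psu.two_psu S hF h3 e hp hd fun hc => hn ?_
    exact Or.inr (Or.inr (Or.inl ⟨F, i1, i2, hc, n, q, hF, hn3, hn2, ⟨e⟩⟩))
  · obtain rfl : n = 3 := by omega
    exact H654.Two.two_psu3 S hs hF (fun h => hn2 ⟨rfl, h⟩) e hp hd

theorem row_G2 : Row.{u} Lie.IsoChevG2 := fun S _ _ hs _ h p hp hd _ =>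
  Or.inl (H115.HC.TwoRows.two_G2 S h hs hp hd)

theorem row_3D4 : Row.{u} Lie.Iso3D4 := fun S _ _ hs _ h p hp hd _ =>
  Or.inl (H115.HC.TwoRows.two_3D4 S h hs hp hd)

theorem row_odd : Row.{u} IsPOmegaOdd := by
  intro S _ _ _ _ h p hp hd hn
  obtain ⟨F, i1, i2, m, hm, ho, ⟨e⟩⟩ := h
  obtain ⟨r, hr⟩ := CharP.exists F
  have hrp : r.Prime := (CharP.char_is_prime_or_zero F r).resolve_right (CharP.char_ne_zero_of_finite F r)
  have : Fact r.Prime := ⟨hrp⟩
  rw [Nat.card_congr e.toEquiv] at hd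
  refine Or.inl (H654.Two.congr e (H749.Two.two_odd_main (p := r) F (by rwa [Nat.card_eq_fintype_card]) hm hp ?_ hd))
  rintro rfl
  exact hn (Or.inr (Or.inr (Or.inr (Or.inl ⟨F, i1, i2, hr, m, hm, ho, ⟨e⟩⟩))))

theorem row_plus : Row.{u} IsPOmegaPlus := by
  intro S _ _ _ _ h p hp hd hn
  obtain ⟨F, i1, i2, m, hm, ⟨e⟩⟩ := h
  obtain ⟨r, hr⟩ := CharP.exists F
  have hrp : r.Prime := (CharP.char_is_prime_or_zero F r).resolve_right (CharP.char_ne_zero_of_finite F r)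
  have : Fact r.Prime := ⟨hrp⟩
  rw [Nat.card_congr e.toEquiv] at hd
  refine Or.inl (H654.Two.congr e (H749.Two.two_plus_main (p := r) F hm hp ?_ hd))
  rintro rfl
  exact hn (Or.inr (Or.inr (Or.inr (Or.inr (Or.inl ⟨F, i1, i2, hr, m, hm, ⟨e⟩⟩)))))

/-- **Assembly.** -/
theorem factTwo_of (hK : ∀ (S : Type u) [Group S] [Finite S] [IsSimpleGroup S], IsKnownSimple' S)
    (hPSp : Row.{u} IsPSp) (hMinus : Row.{u} IsPOmegaMinus) (hT : Row.{u} Lie.IsoTits)
    (hSpor : Row.{u} IsSporadicGroup) : FactTwo.{u} := by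
  intro S _ _ hs hnc p hp hd
  by_cases hL : IsLieTypeChar p S
  · exact two_char hp S hs hnc hd hL
  rcases hK S with h | h | h | h | h | h | h | h | h | h
  · exact absurd ⟨⟨fun a b => by
      have : Fact (Nat.card S).Prime := ⟨h⟩
      have := isCyclic_of_prime_card (α := S) (p := Nat.card S) rfl
      exact (IsCyclic.commGroup (α := S)).mul_comm a b⟩⟩ hnc
  · exact row_alt S hs hnc h hp hd hL
  · exact row_psl S hs hnc h hp hd hL
  · exact hPSp S hs hnc h hp hd hL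
  · exact row_psu S hs hnc h hp hd hL
  · exact row_odd S hs hnc h hp hd hL
  · exact row_plus S hs hnc h hp hd hL
  · exact hMinus S hs hnc h hp hd hL
  · rcases h with h | h | h | h | h | h | h | h | h | h | h
    · exact row_G2 S hs hnc h hp hd hL
    · exact row_F4 S hs hnc h hp hd hL
    · exact row_E6 S hs hnc h hp hd hL
    · exact row_E7 S hs hnc h hp hd hL
    · exact row_E8 S hs hnc h hp hd hL
    · exact row_2E6 S hs hnc h hp hd hL
    · exact row_3D4 S hs hnc h hp hd hL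
    · exact row_sz S hs hnc h hp hd hL
    · exact row_ree S hs hnc h hp hd hL
    · exact row_2F4 S hs hnc h hp hd hL
    · exact hT S hs hnc h hp hd hL
  · exact hSpor S hs hnc h hp hd hL

end Cfsg.Agent.H717.Two
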