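import Cfsg.Agent.H717.Two.Mackey

/-!
# The combinatorial condition for `J = K ∪ {j₀}` (helper717)

* `comb_of` : the condition `Comb` if the roots orthogonal to `K` are `± α_(j₀)`;
* `perp7`, `perp8` : the computation for `E₇`, `E₈`.
-/

set_option autoImplicit false
set_option linter.unusedSectionVars false

namespace Cfsg.Agent.H717.Two

open Cfsg.Agent.H53.HC Cfsg.Agent.H35.ExcIdx
open CoxeterSystem Cfsg.Agent.ChevalleyStructure.CoxeterGeom Cfsg.Agent.Tits.Roots Cfsg.Agent.Tits.Core
  Cfsg.Agent.Tits.Exchange Cfsg.Agent.Nodes.Reps Cfsg.Agent.Nodes.BNOf Cfsg.Agent.Nodes.StabComb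
  Cfsg.Agent.Nodes.Bruhat Cfsg.Agent.Nodes.OppDec Cfsg.Agent.Nodes.LeviDec

variable {I W : Type*} [Fintype I] [DecidableEq I] [Group W] {M : CoxeterMatrix I}
  {cs : CoxeterSystem M W} {A : I → I → ℤ} {h : IsCartan M A}

theorem sr_inj {i k : I} (hik : (sr i : I → ℤ) = sr k) : i = k := by
  by_contra hne
  have := congrFun hik i
  rw [sr_self, sr_ne hne] at this
  exact one_ne_zero this

theorem pairing_sr (i k : I) : pairing A i (sr k) = A i k := by
  rw [sr, pairing_single, mul_one]

/-- **The combinatorial condition.** -/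
theorem comb_of [Fintype W] {J K : Set I} {j₀ : I} (hJ : J = K ∪ {j₀}) (ho : Orth A K {j₀})
    (hnb : ∀ i ∈ K, ∃ i' ∈ K, i' ≠ i ∧ A i i' ≠ 0)
    (hperp : ∀ x : I → ℤ, (∀ i ∈ K, pairing A i x = 0) → 0 ≤ x →
      form cs h x x = form cs h (sr j₀) (sr j₀) → x = sr j₀) : Comb cs h J K := by
  subst hJ
  intro w hw hsupp
  have hKJ : ∀ i ∈ K, i ∈ K ∪ {j₀} := fun i hi => Or.inl hi
  have hj₀ : j₀ ∈ K ∪ {j₀} := Or.inr rfl
  have hj : ∀ i ∈ K, i ≠ j₀ := fun i hi => (ho i hi j₀ rfl).1
  -- the images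
  have himg : ∀ i ∈ K, rep cs h w⁻¹ (sr i) ∈ RootsJ cs h K ∨ rep cs h w⁻¹ (sr i) = sr j₀ := by
    intro i hi
    have h1 : rep cs h w⁻¹ (sr i) ∈ RootsJ cs h (K ∪ {j₀}) := ⟨(isRoot_sr cs h i).act _, hsupp i hi⟩
    rcases ho.roots h1 with h2 | h2
    · exact Or.inl h2
    · exact Or.inr (h2.1.eq_sr (hw.1 i (hKJ i hi)) j₀ fun k hk => h2.2 k hk)
  have himg' : ∀ i ∈ K, rep cs h w⁻¹ (sr i) ∈ RootsJ cs h K := by
    intro i hi
    rcases himg i hi with h1 | h1
    · exact h1
    · exfalso
      obtain ⟨i', hi', hne, hA⟩ := hnb i hi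
      rcases himg i' hi' with h2 | h2
      · have h3 := form_rep cs h w⁻¹ (sr i') (sr i)
        rw [h1] at h3
        have h4 := two_form cs h j₀ (rep cs h w⁻¹ (sr i'))
        have h5 : pairing A j₀ (rep cs h w⁻¹ (sr i')) = 0 := by
          unfold pairing
          refine Finset.sum_eq_zero fun k _ => ?_
          by_cases hk : k ∈ K
          · rw [(ho k hk j₀ rfl).2.2, zero_mul]
          · rw [h2.2 k hk, mul_zero]
        rw [h5, zero_mul, h3] at h4
        have h6 := two_form cs h i (sr i')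
        rw [h4, pairing_sr] at h6
        rcases mul_eq_zero.1 h6.symm with h7 | h7
        · exact hA h7
        · exact (form_pos cs h (sr_ne_zero i)).ne' h7
      · apply hne
        apply sr_inj
        have h3 := h2.trans h1.symm
        have h4 := congrArg (rep cs h w) h3
        rwa [rep_apply_inv, rep_apply_inv] at h4
  have hpK : Perm cs h K w := by
    rcases perm_or (J := K) (fun i hi => hw.1 i (hKJ i hi)) (fun i hi => hw.2 i (hKJ i hi)) with h1 | ⟨i, hi, h1⟩
    · exact h1
    · exfalso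
      obtain ⟨-, -, k, hk, hpos⟩ := h1 (sr i) ⟨sr_mem_PosJ hi, by rw [sr_self]; exact one_pos⟩
      rw [(himg' i hi).2 k hk] at hpos
      exact lt_irrefl _ hpos
  have hfix : rep cs h w⁻¹ (sr j₀) = sr j₀ := by
    refine hperp _ ?_ (hw.1 j₀ hj₀) (form_rep cs h w⁻¹ _ _)
    intro i hi
    obtain ⟨k, hk, e⟩ := hpK.2 i hi
    have e' : rep cs h w⁻¹ (sr k) = sr i := by rw [← e, rep_inv_apply]
    rw [pairing_rep e', pairing_sr, (ho k hk j₀ rfl).2.1]
  have hfix' : rep cs h w (sr j₀) = sr j₀ := by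
    conv_lhs => rw [← hfix]
    rw [rep_apply_inv]
  constructor
  · rintro i (hi | hi)
    · obtain ⟨k, hk, e⟩ := hpK.1 i hi
      exact ⟨k, Or.inl hk, e⟩
    · have hi' : i = j₀ := hi
      subst hi'
      exact ⟨i, Or.inr rfl, hfix⟩
  · rintro i (hi | hi)
    · obtain ⟨k, hk, e⟩ := hpK.2 i hi
      exact ⟨k, Or.inl hk, e⟩
    · have hi' : i = j₀ := hi
      subst hi'
      exact ⟨i, Or.inr rfl, hfix'⟩

/-- the form of a vector orthogonal to all simple roots but two -/
theorem form_self_of_two [Fintype W] {x : I → ℤ} {j j₀ : I} (hj : j ≠ j₀) (hx : ∀ i, i ≠ j → i ≠ j₀ → pairing A i x = 0) :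
    2 * form cs h x x = x j * (pairing A j x * form cs h (sr j) (sr j)) +
      x j₀ * (pairing A j₀ x * form cs h (sr j₀) (sr j₀)) := by
  have h1 : form cs h x x = ∑ k, x k * form cs h x (sr k) := by
    have h2 : ∀ s : Finset I, form cs h x (∑ k ∈ s, x k • sr k) = ∑ k ∈ s, x k * form cs h x (sr k) := by
      intro s
      induction s using Finset.induction_on with
      | empty => rw [Finset.sum_empty, Finset.sum_empty, form_zero_right]
      | insert a s ha ih => rw [Finset.sum_insert ha, Finset.sum_insert ha, form_add_right, form_smul_right, ih]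
    have h3 := h2 Finset.univ
    rw [← eq_sum_sr x] at h3
    exact h3
  rw [h1, Finset.mul_sum]
  have h2 : ∀ k, 2 * (x k * form cs h x (sr k)) = x k * (pairing A k x * form cs h (sr k) (sr k)) := by
    intro k
    rw [← two_form]
    ring
  rw [Finset.sum_congr rfl fun k _ => h2 k, ← Finset.sum_subset (Finset.subset_univ {j, j₀})]
  · rw [Finset.sum_pair hj]
  · intro k _ hk
    simp only [Finset.mem_insert, Finset.mem_singleton, not_or] at hk
    rw [hx k hk.1 hk.2]
    ring

/-- joined simple roots have the same length -/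
theorem form_eq_of_three [Fintype W] {i j : I} (hij : M i j = 3) :
    form cs h (sr i) (sr i) = form cs h (sr j) (sr j) := by
  obtain ⟨h1, h2⟩ := cartan_three h hij
  have h3 := two_form cs h i (sr j)
  have h4 := two_form cs h j (sr i)
  rw [pairing_sr, h1] at h3
  rw [pairing_sr, h2] at h4
  rw [form_comm] at h3
  linarith

/-- the entries of a simply laced Cartan matrix -/
theorem cartan_eq (h : IsCartan M A) (hs : ∀ i j, i ≠ j → M i j = 2 ∨ M i j = 3) (i j : I) :
    A i j = if i = j then 2 else if M i j = 3 then -1 else 0 := by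
  by_cases hij : i = j
  · subst hij
    rw [if_pos rfl, h.diag]
  · rw [if_neg hij]
    rcases hs i j hij with h1 | h1
    · rw [if_neg (by omega), (cartan_two h h1).1]
    · rw [if_pos h1, (cartan_three h h1).1]

end Cfsg.Agent.H717.Two
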