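import Cfsg.Agent.H53.HC.Exc
import Cfsg.Agent.H622.Levi.Cusp
import Cfsg.Agent.H419.TwoTrans
import Cfsg.Agent.S0887

/-!
# Harish-Chandra induction of characters which are cuspidal on a part of the Levi subgroup (helper717)

* `exists_over'` : Clifford's theorem with a multiplier dividing the index;
* `isIrr_indFun_partial` : Mackey's criterion, the vanishing sums only for the nodes of `K ⊆ J`;
* `exists_irr_partial` : irreducible characters of degree `|G : P_J| k θ(1)`, `k ∣ |L_J : M_J|`;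
* `perm_or_partial` : the combinatorial condition for `J = K ∪ {j₀}`, `j₀` orthogonal to `K`.
-/

set_option autoImplicit false
set_option linter.unusedSectionVars false

open scoped ComplexConjugate Pointwise
open Cfsg

namespace Cfsg.Agent.H717.Two

open Cfsg.Agent.OddOrderCharacters.Clifford Cfsg.Agent.Characters Cfsg.Agent.H53.HC

section clif

variable {G : Type*} [Group G]

/-- **Clifford's theorem** for subgroups `N ≤ P ≤ N_G(N)`, with a multiplier dividing the index. -/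
theorem exists_over' [Finite G] {N P : Subgroup G} (hNP : N ≤ P) (hn : P ≤ Subgroup.normalizer (N : Set G))
    {θ : N → ℂ} (hθ : IsIrrCharacter N θ) :
    ∃ ψ : P → ℂ, IsIrrCharacter P ψ ∧ (∃ m : ℕ, 0 < m ∧ m ∣ N.relIndex P ∧ ψ 1 = m * θ 1) ∧
      ∃ (c : ℂ) (s : Finset (N → ℂ)), c ≠ 0 ∧ θ ∈ s ∧ (∀ x : N, ψ ⟨x, hNP x.2⟩ = c * ∑ φ ∈ s, φ x) ∧
        ∀ φ ∈ s, ∃ g ∈ P, ∀ x (hx : x ∈ N), ∃ hx' : g * x * g⁻¹ ∈ N, φ ⟨x, hx⟩ = θ ⟨g * x * g⁻¹, hx'⟩ := by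
  classical
  have : Fintype G := Fintype.ofFinite G
  have : Fintype P := Fintype.ofFinite P
  have : Fintype N := Fintype.ofFinite N
  let N' : Subgroup P := N.subgroupOf P
  have hN' : N'.Normal := (Subgroup.normal_subgroupOf_iff_le_normalizer hNP).2 hn
  have : Fintype N' := Fintype.ofFinite N'
  let e : N' ≃* N := Subgroup.subgroupOfEquivOfLe hNP
  have hθ' : IsIrrCharacter N' (θ ∘ e) := Core.isIrr_comp e.toMonoidHom e.surjective hθ
  obtain ⟨ψ, hψ, hne⟩ := Cfsg.Agent.CharDeep.PowerDegrees.exists_irr_over N' hθ'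
  refine ⟨ψ, hψ, ?_, classInner (fun n : N' => ψ n) (θ ∘ e),
    (Finset.univ.image (fun x : P => (θ ∘ e) ∘ (MulAut.conjNormal x : MulAut N'))).image (fun φ => φ ∘ e.symm), hne, ?_,
    ?_, ?_⟩
  · obtain ⟨c, hc0, hc⟩ := Core.isIrr_apply_one hψ
    obtain ⟨d, hd0, hd⟩ := Core.isIrr_apply_one hθ'
    obtain ⟨h1, h2⟩ := Cfsg.Agent.S0887.result N' ψ hψ (θ ∘ e) hθ' hne c d hc hd
    have h3 : (θ ∘ e) 1 = θ 1 := by rw [Function.comp_apply, map_one]
    rw [h3] at hd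
    refine ⟨c / d, Nat.div_pos (Nat.le_of_dvd hc0 h1) hd0, h2, ?_⟩
    rw [hc, hd]
    exact_mod_cast (Nat.div_mul_cancel h1).symm
  · refine Finset.mem_image.2 ⟨(θ ∘ e) ∘ (MulAut.conjNormal (1 : P) : MulAut N'),
      Finset.mem_image.2 ⟨1, Finset.mem_univ _, rfl⟩, ?_⟩
    funext x
    simp
  · intro x
    have h1 := Cfsg.Agent.CharactersDeep.CliffordSum.restrict_eq_smul_sum N' hψ hθ' hne
    have h2 := congrFun h1 (e.symm x)
    rw [Pi.smul_apply, Finset.sum_apply, smul_eq_mul] at h2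
    rw [Finset.sum_image (by
      intro a _ b _ hab
      funext z
      have := congrFun hab (e z)
      simpa using this)]
    exact h2
  · intro φ hφ
    obtain ⟨φ', hφ', rfl⟩ := Finset.mem_image.1 hφ
    obtain ⟨g, -, rfl⟩ := Finset.mem_image.1 hφ'
    refine ⟨g, g.2, fun x hx => ?_⟩
    have h1 : (g : G) * x * (g : G)⁻¹ ∈ N := (Subgroup.mem_normalizer_iff.1 (hn g.2) x).1 hx
    refine ⟨h1, ?_⟩
    rfl

/-- the index of a normalised subgroup in the join divides the order of the other one -/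
theorem relIndex_sup_dvd [Finite G] {T N : Subgroup G} (hn : T ≤ Subgroup.normalizer (N : Set G)) :
    N.relIndex (T ⊔ N) ∣ Nat.card T := by
  have h1 : ((T ⊔ N : Subgroup G) : Set G) = (T : Set G) * (N : Set G) :=
    Subgroup.coe_mul_of_left_le_normalizer_right _ _ hn
  have hle : T ⊔ N ≤ Subgroup.normalizer (N : Set G) := sup_le hn Subgroup.le_normalizer
  have hN' : (N.subgroupOf (T ⊔ N)).Normal := (Subgroup.normal_subgroupOf_iff_le_normalizer le_sup_right).2 hle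
  let f : T →* (↥(T ⊔ N) ⧸ N.subgroupOf (T ⊔ N)) := (QuotientGroup.mk' _).comp (Subgroup.inclusion le_sup_left)
  have hf : Function.Surjective f := by
    intro x
    obtain ⟨⟨y, hy⟩, rfl⟩ := QuotientGroup.mk'_surjective _ x
    have hy' : y ∈ ((T ⊔ N : Subgroup G) : Set G) := hy
    rw [h1] at hy'
    obtain ⟨t, ht, m, hm, rfl⟩ := Set.mem_mul.1 hy'
    refine ⟨⟨t, ht⟩, ?_⟩
    refine (QuotientGroup.eq).2 ?_
    rw [Subgroup.mem_subgroupOf]
    change t⁻¹ * (t * m) ∈ N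
    rw [inv_mul_cancel_left]
    exact hm
  have h2 : Nat.card (↥(T ⊔ N) ⧸ N.subgroupOf (T ⊔ N)) ∣ Nat.card T := Subgroup.card_dvd_of_surjective f hf
  exact h2

end clif

section rgd

open CoxeterSystem Cfsg.Agent.ChevalleyStructure.CoxeterGeom Cfsg.Agent.Tits.Roots Cfsg.Agent.Tits.Core
  Cfsg.Agent.Tits.Exchange Cfsg.Agent.Nodes.Reps Cfsg.Agent.Nodes.BNOf Cfsg.Agent.Nodes.StabComb
  Cfsg.Agent.Nodes.Bruhat Cfsg.Agent.Nodes.OppDec Cfsg.Agent.Nodes.LeviDec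

variable {I W Y : Type*} [Fintype I] [DecidableEq I] [Group W] [Group Y] {M : CoxeterMatrix I}
  {cs : CoxeterSystem M W} {A : I → I → ℤ} {h : IsCartan M A} {p : ℕ} {T : Subgroup Y} {n : I → Y}
  {X : (I → ℤ) → Subgroup Y}

/-- `w` is minimal in `W_J w W_J` -/
def Min (cs : CoxeterSystem M W) (h : IsCartan M A) (J : Set I) (w : W) : Prop :=
  (∀ i ∈ J, 0 ≤ rep cs h w⁻¹ (sr i)) ∧ ∀ i ∈ J, 0 ≤ rep cs h w (sr i)

/-- the combinatorial condition -/
def Comb (cs : CoxeterSystem M W) (h : IsCartan M A) (J K : Set I) : Prop :=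
  ∀ w, Min cs h J w → (∀ i ∈ K, ∀ k, k ∉ J → rep cs h w⁻¹ (sr i) k = 0) → Perm cs h J w

/-- either `w` permutes the simple roots of `J` or some `rad J i`, `i ∈ K`, is mapped into `V_J` -/
theorem Comb.perm_or {J K : Set I} (hKJ : K ⊆ J) (hC : Comb cs h J K) {w : W} (hw : Min cs h J w) :
    Perm cs h J w ∨ ∃ i ∈ K, ∀ x ∈ PosRad cs h J i, rep cs h w⁻¹ x ∈ NotJ cs h J := by
  by_cases hc : ∀ i ∈ K, ∀ k, k ∉ J → rep cs h w⁻¹ (sr i) k = 0
  · exact Or.inl (hC w hw hc)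
  · right
    push Not at hc
    obtain ⟨i, hi, k, hk, hne⟩ := hc
    have hpos : 0 < rep cs h w⁻¹ (sr i) k := lt_of_le_of_ne (hw.1 i (hKJ hi) k) (Ne.symm hne)
    refine ⟨i, hi, ?_⟩
    rintro x ⟨hx, hxi⟩
    refine ⟨hx.1.act _, rep_nonneg_of_supp hw.1 hx.2.1 hx.2.2, k, hk, ?_⟩
    exact lt_of_lt_of_le (mul_pos hxi hpos) (rep_apply_ge hw.1 hx.2.1 hx.2.2 i k)

variable (R : RGD cs h p T n X)

include R

/-- **Harish-Chandra induction of partially cuspidal characters in general position.** -/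
theorem isIrr_indFun_partial [Finite W] [Fintype Y] (hG : GG cs h T X = ⊤) {J K : Set I} (hKJ : K ⊆ J)
    (hC : Comb cs h J K) {ψ : ↥(PJ cs h T X J) → ℂ} (hψ : IsIrrCharacter _ ψ)
    (hV : ∀ (v : Y) (hv : v ∈ VJ cs h X J), ψ ⟨v, VJ_le_PJ hv⟩ = ψ 1)
    (hc : ∀ i ∈ K, ∀ [Fintype (rad cs h X J i)], ∑ u : rad cs h X J i, ψ ⟨u, rad_le_PJ J i u.2⟩ = 0)
    (hs : ∀ w g, Rp cs R.nsys w g → w ∉ WJ cs J → Perm cs h J w →
      ∃ (L : Subgroup Y) (hL : L ≤ PJ cs h T X J) (hL' : ∀ l ∈ L, g⁻¹ * l * g ∈ PJ cs h T X J),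
        ∀ [Fintype L], ∑ l : L, ψ ⟨l, hL l.2⟩ * conj (ψ ⟨g⁻¹ * l * g, hL' l l.2⟩) = 0) :
    IsIrrCharacter Y (indFun (PJ cs h T X J) ψ) := by
  classical
  refine isIrr_indFun_rep _ hψ fun x hx => ?_
  obtain ⟨a, ha, b, hb, w, g, hg, e, hwJ, h1, h2⟩ := exists_min_rep R hG J hx
  refine ⟨a, ha, b, hb, g, e, ?_⟩
  rcases hC.perm_or hKJ ⟨h1, h2⟩ with hp | ⟨i, hi, hrad⟩
  · exact hs w g hg hwJ hp
  · have hconj : ∀ l ∈ rad cs h X J i, g⁻¹ * l * g ∈ VJ cs h X J := fun l hl =>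
      conj_mem_Sup' R hg (fun x hx => hx.1.1) hrad hl
    refine ⟨rad cs h X J i, rad_le_PJ J i, fun l hl => VJ_le_PJ (hconj l hl), ?_⟩
    intro hf
    have h3 : ∀ l : rad cs h X J i, ψ ⟨l, rad_le_PJ J i l.2⟩ *
        conj (ψ ⟨g⁻¹ * l * g, VJ_le_PJ (hconj l l.2)⟩) = ψ ⟨l, rad_le_PJ J i l.2⟩ * conj (ψ 1) := by
      intro l
      rw [hV _ (hconj l l.2)]
    rw [Finset.sum_congr rfl fun l _ => h3 l, ← Finset.sum_mul, hc i hi, zero_mul]

/-- **Irreducible characters of a group with a root group datum from the partially cuspidal characters of `M_J`**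
(with the inducing character). -/
theorem exists_irr_partial' [Finite W] [Fintype Y] (hG : GG cs h T X = ⊤) {J K : Set I} (hKJ : K ⊆ J)
    (hC : Comb cs h J K) {θ : ↥(MJ cs h X J) → ℂ} (hθ : IsIrrCharacter _ θ)
    (hc : ∀ i ∈ K, ∀ [Fintype (rad cs h X J i)], ∑ u : rad cs h X J i, θ ⟨u, rad_le_MJ J i u.2⟩ = 0)
    (hs : ∀ w g (hg : Rp cs R.nsys w g), w ∉ WJ cs J → ∀ hw : Perm cs h J w,
      ∃ (m : Y) (hm : m ∈ MJ cs h X J), θ ⟨g⁻¹ * m * g, conj_mem_MJ R hg hw hm⟩ ≠ θ ⟨m, hm⟩) :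
    ∃ ψ : ↥(PJ cs h T X J) → ℂ, IsIrrCharacter _ ψ ∧ IsIrrCharacter Y (indFun (PJ cs h T X J) ψ) ∧
      (∀ (v : Y) (hv : v ∈ VJ cs h X J), ψ ⟨v, VJ_le_PJ hv⟩ = ψ 1) ∧
      (∃ k : ℕ, 0 < k ∧ k ∣ Nat.card T ∧ ψ 1 = k * θ 1) ∧
      ∃ (c : ℂ) (s : Finset (↥(MJ cs h X J) → ℂ)), c ≠ 0 ∧ θ ∈ s ∧
        (∀ (m : Y) (hm : m ∈ MJ cs h X J), ψ ⟨m, LJ_le_PJ (MJ_le_LJ J hm)⟩ = c * ∑ φ ∈ s, φ ⟨m, hm⟩) ∧
        ∀ φ ∈ s, ∃ t, ∃ ht : t ∈ T, φ = θ ∘ conjME (MJ cs h X J) (T_le_normalizer_MJ R J ht) := by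
  classical
  obtain ⟨ψ, hψ, ⟨k, hk, hkd, hk1⟩, c, s, hc0, hθs, hres, hsφ⟩ := exists_over' (MJ_le_LJ (T := T) J) (LJ_le_normalizer_MJ R J) hθ
  obtain ⟨ψ', hψ', hψL, hψV⟩ := exists_infl R J hψ
  have hres' : ∀ (m : Y) (hm : m ∈ MJ cs h X J), ψ' ⟨m, LJ_le_PJ (MJ_le_LJ J hm)⟩ = c * ∑ φ ∈ s, φ ⟨m, hm⟩ := by
    intro m hm
    rw [hψL]
    exact hres ⟨m, hm⟩
  -- the conjugates are conjugates under the torus
  have hsT : ∀ φ ∈ s, ∃ t, ∃ ht : t ∈ T, φ = θ ∘ conjME (MJ cs h X J) (T_le_normalizer_MJ R J ht) := by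
    intro φ hφ
    obtain ⟨g, hg, hgφ⟩ := hsφ φ hφ
    obtain ⟨m, hm, t, ht, rfl⟩ := (mem_LJ_iff_mul' R J).1 hg
    refine ⟨t, ht, ?_⟩
    funext x
    obtain ⟨hx', e⟩ := hgφ x x.2
    rw [e, Function.comp_apply]
    have h1 := Core.isIrr_isClassFunction hθ (conjME (MJ cs h X J) (T_le_normalizer_MJ R J ht) x) ⟨m, hm⟩
    rw [← h1]
    congr 1
    apply Subtype.ext
    simp only [conjME_coe, Subgroup.coe_mul, InvMemClass.coe_inv]
    group
  refine ⟨ψ', hψ', ?_, hψV, ⟨k, hk, hkd.trans (relIndex_sup_dvd (T_le_normalizer_MJ R J)), ?_⟩, c, s, hc0, hθs, hres',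
    hsT⟩
  · refine isIrr_indFun_partial R hG hKJ hC hψ' hψV ?_ ?_
    · intro i hi hf
      have h1 : ∀ u : rad cs h X J i, ψ' ⟨u, rad_le_PJ J i u.2⟩ = c * ∑ φ ∈ s, φ ⟨u, rad_le_MJ J i u.2⟩ :=
        fun u => hres' u (rad_le_MJ J i u.2)
      rw [Finset.sum_congr rfl fun u _ => h1 u, ← Finset.mul_sum, Finset.sum_comm]
      rw [Finset.sum_eq_zero, mul_zero]
      intro φ hφ
      obtain ⟨t, ht, rfl⟩ := hsT φ hφ
      rw [← hc i hi]
      exact Fintype.sum_equiv (conjME (rad cs h X J i) (T_le_normalizer_rad R J i ht)).toEquiv _ _ fun u => rfl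
    · intro w g hg hw hp
      have hgn := inv_mem (rp_mem_normalizer_MJ R hg hp)
      refine ⟨MJ cs h X J, le_trans (MJ_le_LJ J) LJ_le_PJ,
        fun l hl => LJ_le_PJ (MJ_le_LJ J (conj_mem_MJ R hg hp hl)), ?_⟩
      intro hf
      have h1 : ∀ l : MJ cs h X J, ψ' ⟨l, LJ_le_PJ (MJ_le_LJ J l.2)⟩ *
          conj (ψ' ⟨g⁻¹ * l * g, LJ_le_PJ (MJ_le_LJ J (conj_mem_MJ R hg hp l.2))⟩) =
          ∑ φ ∈ s, ∑ φ' ∈ s, (c * conj c) * (φ l * conj ((φ' ∘ conjME (MJ cs h X J) hgn) l)) := by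
        intro l
        have e2 : (⟨g⁻¹ * l * g, conj_mem_MJ R hg hp l.2⟩ : MJ cs h X J) = conjME (MJ cs h X J) hgn l := by
          apply Subtype.ext
          rw [conjME_coe, inv_inv]
        rw [hres' l l.2, hres' _ (conj_mem_MJ R hg hp l.2), e2, map_mul, map_sum]
        simp only [← Finset.mul_sum, Function.comp_apply]
        rw [← Finset.sum_mul]
        ring
      rw [Finset.sum_congr rfl fun l _ => h1 l, Finset.sum_comm]
      refine Finset.sum_eq_zero fun φ hφ => ?_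
      rw [Finset.sum_comm]
      refine Finset.sum_eq_zero fun φ' hφ' => ?_
      rw [← Finset.mul_sum]
      obtain ⟨t, ht, rfl⟩ := hsT φ hφ
      obtain ⟨t', ht', rfl⟩ := hsT φ' hφ'
      have hne : θ ∘ conjME (MJ cs h X J) (T_le_normalizer_MJ R J ht) ≠
          (θ ∘ conjME (MJ cs h X J) (T_le_normalizer_MJ R J ht')) ∘ conjME (MJ cs h X J) hgn := by
        intro he
        have hg' : Rp cs R.nsys w (t * g * t'⁻¹) := by
          have h2 := ((rp_of_mem (cs := cs) (hN := R.nsys) ht).mul hg).mul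
            (rp_of_mem (cs := cs) (hN := R.nsys) (inv_mem ht'))
          rwa [one_mul, mul_one] at h2
        obtain ⟨m, hm, hne⟩ := hs w _ hg' hw hp
        apply hne
        have h3 := congrFun he (conjME (MJ cs h X J) (inv_mem (T_le_normalizer_MJ R J ht)) ⟨m, hm⟩)
        simp only [Function.comp_apply] at h3
        refine Eq.trans ?_ (h3.symm.trans ?_)
        · congr 1
          apply Subtype.ext
          simp only [conjME_coe]
          group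
        · congr 1
          apply Subtype.ext
          simp only [conjME_coe]
          group
      have hi1 : IsIrrCharacter _ (θ ∘ conjME (MJ cs h X J) (T_le_normalizer_MJ R J ht)) :=
        Core.isIrr_comp (conjME _ (T_le_normalizer_MJ R J ht)).toMonoidHom (MulEquiv.surjective _) hθ
      have hi2 : IsIrrCharacter _ (θ ∘ conjME (MJ cs h X J) (T_le_normalizer_MJ R J ht')) :=
        Core.isIrr_comp (conjME _ (T_le_normalizer_MJ R J ht')).toMonoidHom (MulEquiv.surjective _) hθ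
      have hi3 : IsIrrCharacter _ ((θ ∘ conjME (MJ cs h X J) (T_le_normalizer_MJ R J ht')) ∘
          conjME (MJ cs h X J) hgn) :=
        Core.isIrr_comp (conjME _ hgn).toMonoidHom (MulEquiv.surjective _) hi2
      have h4 := Core.classInner_irr_ne hi1 hi3 hne
      rw [Core.classInner_def, mul_eq_zero] at h4
      rcases h4 with h4 | h4
      · exact absurd (inv_eq_zero.1 h4) Core.card_ne_zero_complex
      · rw [mul_eq_zero]
        exact Or.inr h4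
  · rw [← hk1]
    exact hψL 1 (one_mem _)

/-- **Irreducible characters of a group with a root group datum from the partially cuspidal characters of `M_J`.** -/
theorem exists_irr_partial [Finite W] [Fintype Y] (hG : GG cs h T X = ⊤) {J K : Set I} (hKJ : K ⊆ J)
    (hC : Comb cs h J K) {θ : ↥(MJ cs h X J) → ℂ} (hθ : IsIrrCharacter _ θ)
    (hc : ∀ i ∈ K, ∀ [Fintype (rad cs h X J i)], ∑ u : rad cs h X J i, θ ⟨u, rad_le_MJ J i u.2⟩ = 0)
    (hs : ∀ w g (hg : Rp cs R.nsys w g), w ∉ WJ cs J → ∀ hw : Perm cs h J w,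
      ∃ (m : Y) (hm : m ∈ MJ cs h X J), θ ⟨g⁻¹ * m * g, conj_mem_MJ R hg hw hm⟩ ≠ θ ⟨m, hm⟩) :
    ∃ χ : Y → ℂ, IsIrrCharacter Y χ ∧ ∃ k : ℕ, 0 < k ∧ k ∣ Nat.card T ∧
      χ 1 = (PJ cs h T X J).index * (k * θ 1) := by
  obtain ⟨ψ, -, hi, -, ⟨k, hk, hkd, hk1⟩, -⟩ := exists_irr_partial' R hG hKJ hC hθ hc hs
  refine ⟨_, hi, k, hk, hkd, ?_⟩
  rw [indFun_one, hk1]

end rgd

end Cfsg.Agent.H717.Two
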