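import Cfsg.Agent.H717.Two.Comb
import Cfsg.Agent.H113.PSL.Facts

/-!
# The Steinberg character of the rank one group of a node (helper717)
-/

set_option autoImplicit false
set_option linter.unusedSectionVars false

open scoped LinearAlgebra.Projectivization

namespace Cfsg.Agent.H717.Two

open Cfsg Cfsg.Agent.Characters Cfsg.Agent.H53.HC Matrix MulAction
open Cfsg.Agent.H622.Levi (exists_co_one Co Co.card Co.range mem_center_of_ker)
open CoxeterSystem Cfsg.Agent.ChevalleyStructure.CoxeterGeom Cfsg.Agent.Tits.Roots Cfsg.Agent.Tits.Core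
  Cfsg.Agent.Tits.Exchange Cfsg.Agent.Nodes.Reps Cfsg.Agent.Nodes.BNOf Cfsg.Agent.Nodes.StabComb
  Cfsg.Agent.Nodes.Bruhat Cfsg.Agent.Nodes.OppDec Cfsg.Agent.Nodes.LeviDec

/-- the Steinberg character of `SL₂(q)` -/
theorem exists_st (F : Type) [Field F] [Finite F] : ∃ η : SpecialLinearGroup (Fin 2) F → ℂ,
    IsIrrCharacter _ η ∧ (∀ z ∈ Subgroup.center (SpecialLinearGroup (Fin 2) F), η z = η 1) ∧ η 1 = Nat.card F := by
  classical
  have := Fintype.ofFinite F
  have hfin' : Finite (ℙ F (Fin 2 → F)) := by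
    unfold Projectivization
    infer_instance
  have h : IsMultiplyPretransitive (SpecialLinearGroup (Fin 2) F) (ℙ F (Fin 2 → F)) 2 := inferInstance
  have hc : Nat.card (ℙ F (Fin 2 → F)) = Nat.card F + 1 := by
    rw [Projectivization.card_of_finrank F (Fin 2 → F) (n := 2) (by simp), Finset.sum_range_succ, Finset.sum_range_one,
      pow_zero, pow_one, add_comm]
  have hF : 0 < Nat.card F := Nat.card_pos
  obtain ⟨θ, hθ⟩ := H419.TwoTrans.exists_irr (G := SpecialLinearGroup (Fin 2) F) (ℙ F (Fin 2 → F)) h (by omega)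
  have h1 : (θ : SpecialLinearGroup (Fin 2) F → ℂ) 1 = Nat.card F := by
    rw [hθ, fixedBy_one_eq_univ, Nat.card_univ, hc]
    push_cast
    ring
  refine ⟨θ, θ.2, fun z hz => ?_, h1⟩
  have h2 : fixedBy (ℙ F (Fin 2 → F)) z = Set.univ := by
    rw [Set.eq_univ_iff_forall]
    intro x
    rw [mem_fixedBy]
    have e1 : (QuotientGroup.mk z : ProjectiveSpecialLinearGroup (Fin 2) F) • x = z • x := rfl
    have e2 : (QuotientGroup.mk z : ProjectiveSpecialLinearGroup (Fin 2) F) = 1 := (QuotientGroup.eq_one_iff z).2 hz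
    rw [← e1, e2, one_smul]
  rw [hθ, h2, h1, Nat.card_univ, hc]
  push_cast
  ring

variable {I W Y : Type*} [Fintype I] [DecidableEq I] [Group W] [Group Y] {M : CoxeterMatrix I}
  {cs : CoxeterSystem M W} {A : I → I → ℤ} {h : IsCartan M A} {p : ℕ} {T : Subgroup Y} {n : I → Y}
  {X : (I → ℤ) → Subgroup Y}

/-- **The Steinberg character of the rank one group of a node.** -/
theorem st_node [Finite W] [Finite Y] (R : RGD cs h p T n X) (i j : I) (hij : M i j = 3) {q : ℕ}
    (hq : Nat.card (X (sr i)) = q) :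
    ∃ ρ : ↥(MJ cs h X {i}) → ℂ, IsIrrCharacter _ ρ ∧ (∀ z ∈ Subgroup.center ↥(MJ cs h X {i}), ρ z = ρ 1) ∧ ρ 1 = q := by
  obtain ⟨F, _, _, φ, C⟩ := exists_co_one R i j hij
  obtain ⟨η, hη, hz, hη1⟩ := exists_st F
  let k : Fin 1 ↪ I := ⟨fun _ => i, fun a b _ => Subsingleton.elim a b⟩
  have hk : Set.range k = {i} := by
    ext x
    constructor
    · rintro ⟨_, rfl⟩; rfl
    · rintro rfl; exact ⟨0, rfl⟩
  have hcard := C.card 0
  change Nat.card (X (sr i)) = _ at hcard
  rw [← hk]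
  have hran : φ.range = MJ cs h X (Set.range k) := Co.range (k := k) C (by
    intro a b
    rw [Subsingleton.elim a b, M.diagonal, CoxeterMatrix.diagonal]) one_pos
  let f : SpecialLinearGroup (Fin 2) F →* ↥(MJ cs h X (Set.range k)) :=
    φ.codRestrict _ fun g => hran ▸ ⟨g, rfl⟩
  have hf : Function.Surjective f := by
    rintro ⟨y, hy⟩
    rw [← hran] at hy
    obtain ⟨g, rfl⟩ := hy
    exact ⟨g, rfl⟩
  have hfv : ∀ g, (f g : Y) = φ g := fun g => rfl
  obtain ⟨θ, hθ, hv⟩ := OddOrderCharacters.PF9.Reducible.exists_of_surjective f hf hη (by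
    intro g hg
    refine hz g (C.ker ?_)
    rw [MonoidHom.mem_ker, ← hfv, hg]
    rfl)
  have h1 : θ 1 = η 1 := by rw [← hv, map_one]
  refine ⟨θ, hθ, ?_, ?_⟩
  · intro z hz'
    obtain ⟨g, rfl⟩ := hf z
    rw [hv, h1]
    refine hz g (mem_center_of_ker (m := 1) one_pos C.ker fun s => ?_)
    rw [Subgroup.mem_center_iff] at hz'
    exact (congrArg Subtype.val (hz' (f s))).symm
  · rw [h1, hη1, ← hcard, hq]

end Cfsg.Agent.H717.Two
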